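import Groth.Agent.PicF.K412.PushInj
import Groth.Agent.Etdl.H494.H90

/-!
# The boundary map `pbar_* i_* G_m ⟶ R^1 pbar_* G_m(m)`
-/

set_option autoImplicit false
universe u
open CategoryTheory CategoryTheory.Limits AlgebraicGeometry Opposite

noncomputable section

namespace K412.Delta

open Groth.Agent.Etdl.H432.Sec Groth.Agent.Etdl.H432.Un Groth.Agent.Etdl.H432.IQ Groth.Agent.Etdl.H494.Gamma
  Groth.Agent.Etdl.H494

variable {P Y : Scheme.{u}} (i : Y ⟶ P)

/-- The sheaf `i_* G_m`. -/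
abbrev GY : EtFppf.AbF P := (EtFppf.pushBig i).obj (EtDl.GmF Y)

/-- The unit on `Z ×_P Y` attached to a section of `i_* G_m`. -/
def yv {Z : Over P} (w : Γs (GY i) Z) : Γ(pullback Z.hom i, ⊤)ˣ := gm (U := (Over.pullback i).obj Z) w

theorem yv_injective {Z : Over P} : Function.Injective (yv i : Γs (GY i) Z → _) :=
  gm_injective (U := (Over.pullback i).obj Z)

theorem yv_surjective {Z : Over P} : Function.Surjective (yv i : Γs (GY i) Z → _) :=
  gm_surjective (U := (Over.pullback i).obj Z)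

theorem yv_add {Z : Over P} (w w' : Γs (GY i) Z) : yv i (w + w') = yv i w * yv i w' := rfl

theorem yv_r {Z Z' : Over P} (g : Z' ⟶ Z) (w : Γs (GY i) Z) :
    (yv i (r (GY i) g w) : Γ(pullback Z'.hom i, ⊤)) = (mapY i g).appTop.hom (yv i w : Γ(pullback Z.hom i, ⊤)) := rfl

theorem yv_res {Z : Over P} (s : Γs (EtDl.GmF P) Z) :
    (yv i (m (EtDl.resGmF i) Z s) : Γ(pullback Z.hom i, ⊤)) = tr i Z (gm s : O Z) := rfl

variable {i}

theorem mem_basicOpen_of_tr {Z : Over P} (b : O Z) (hb : IsUnit (tr i Z b)) (y : ↥(pullback Z.hom i)) :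
    pullback.fst Z.hom i y ∈ Z.left.basicOpen b := by
  have h1 : (pullback.fst Z.hom i) ⁻¹ᵁ (Z.left.basicOpen b) =
      (pullback Z.hom i).basicOpen ((pullback.fst Z.hom i).appTop.hom b) :=
    Scheme.preimage_basicOpen_top _ _
  have h2 : (pullback Z.hom i).basicOpen ((pullback.fst Z.hom i).appTop.hom b) = ⊤ :=
    Scheme.basicOpen_of_isUnit _ hb
  have h3 : y ∈ (pullback.fst Z.hom i) ⁻¹ᵁ (Z.left.basicOpen b) := by
    rw [h1, h2]; trivial
  exact h3

theorem res_eq_of_tr {Z Z' : Over P} (g : Z' ⟶ Z) (w : Γs (GY i) Z) (b : O Z)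
    (hb : tr i Z b = (yv i w : Γ(pullback Z.hom i, ⊤))) (u : Γs (EtDl.GmF P) Z') (hu : (gm u : O Z') = ro g b) :
    m (EtDl.resGmF i) Z' u = r (GY i) g w := by
  apply yv_injective i
  apply Units.ext
  rw [yv_res, hu, tr_ro, hb, yv_r]

/-- Units on `Y` lift locally. -/
theorem exists_lift_unit [IsClosedImmersion i] {Z : Over P} (w : Γs (GY i) Z) (x : Z.left) :
    ∃ (V : Over P) (g : V ⟶ Z) (u : Γs (EtDl.GmF P) V), IsOpenImmersion g.left ∧ x ∈ Set.range g.left ∧
      m (EtDl.resGmF i) V u = r (GY i) g w := by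
  obtain ⟨W, hW, hxW, -⟩ := exists_isAffineOpen_mem_and_subset (U := (⊤ : Z.left.Opens)) (x := x) trivial
  let Z₁ : Over P := opn Z W
  have hZ₁ : IsAffine Z₁.left := hW
  let w₁ := r (GY i) (opnι Z W) w
  let x₁ : Z₁.left := ⟨x, hxW⟩
  have hx₁ : (opnι Z W).left x₁ = x := rfl
  have ho₁ : IsOpenImmersion (opnι Z W).left := inferInstanceAs (IsOpenImmersion W.ι)
  have hcl : IsClosedImmersion (pullback.fst Z₁.hom i) := inferInstance
  obtain ⟨b, hb⟩ := (IsClosedImmersion.isAffine_surjective_of_isAffine (pullback.fst Z₁.hom i)).2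
    (yv i w₁ : Γ(pullback Z₁.hom i, ⊤))
  have hbu : IsUnit (tr i Z₁ b) := by
    change IsUnit ((pullback.fst Z₁.hom i).appTop.hom b)
    rw [hb]; exact (yv i w₁).isUnit
  by_cases hx : x₁ ∈ Set.range (pullback.fst Z₁.hom i)
  · obtain ⟨y, hy⟩ := hx
    have hD : x₁ ∈ Z₁.left.basicOpen b := by rw [← hy]; exact mem_basicOpen_of_tr b hbu y
    have ho : IsOpenImmersion (opnι Z₁ (Z₁.left.basicOpen b)).left :=
      inferInstanceAs (IsOpenImmersion (Z₁.left.basicOpen b).ι)
    have hunit : IsUnit (ro (opnι Z₁ (Z₁.left.basicOpen b)) b) := by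
      refine H90.isUnit_of_basicOpen (U := ⊤) _ ?_
      have h1 : (opnι Z₁ (Z₁.left.basicOpen b)).left ⁻¹ᵁ (Z₁.left.basicOpen b) =
          (opn Z₁ (Z₁.left.basicOpen b)).left.basicOpen (ro (opnι Z₁ (Z₁.left.basicOpen b)) b) :=
        Scheme.preimage_basicOpen_top _ _
      rw [← h1]
      intro z _
      exact z.2
    obtain ⟨u, hu⟩ := gm_surjective (X := P) (U := opn Z₁ (Z₁.left.basicOpen b)) hunit.unit
    refine ⟨opn Z₁ (Z₁.left.basicOpen b), opnι Z₁ (Z₁.left.basicOpen b) ≫ opnι Z W, u, ?_, ?_, ?_⟩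
    · rw [Over.comp_left]; infer_instance
    · exact ⟨⟨x₁, hD⟩, rfl⟩
    · rw [← r_r]
      refine res_eq_of_tr (opnι Z₁ (Z₁.left.basicOpen b)) w₁ b hb u ?_
      rw [hu]; rfl
  · let N : Z₁.left.Opens := ⟨(Set.range (pullback.fst Z₁.hom i))ᶜ,
      (pullback.fst Z₁.hom i).isClosedEmbedding.isClosed_range.isOpen_compl⟩
    have ho : IsOpenImmersion (opnι Z₁ N).left := inferInstanceAs (IsOpenImmersion N.ι)
    refine ⟨opn Z₁ N, opnι Z₁ N ≫ opnι Z W, 0, ?_, ?_, ?_⟩
    · rw [Over.comp_left]; infer_instance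
    · exact ⟨⟨x₁, hx⟩, rfl⟩
    · have hemp : IsEmpty ↥(pullback (opn Z₁ N).hom i) := by
        refine ⟨fun y => ?_⟩
        have h1 : pullback.fst Z₁.hom i (mapY i (opnι Z₁ N) y) = (opnι Z₁ N).left (pullback.fst (opn Z₁ N).hom i y) := by
          rw [← Scheme.Hom.comp_apply, ← Scheme.Hom.comp_apply, mapY_fst]
        have h2 : (opnι Z₁ N).left (pullback.fst (opn Z₁ N).hom i y) ∈ N := (pullback.fst (opn Z₁ N).hom i y).2
        rw [← h1] at h2
        exact h2 ⟨_, rfl⟩
      have hsub : Subsingleton Γ(pullback (opn Z₁ N).hom i, ⊤) := inferInstance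
      apply yv_injective i
      exact Units.ext (Subsingleton.elim _ _)

instance epi_resGmF [IsClosedImmersion i] : Epi (EtDl.resGmF i) := by
  rw [← Sheaf.isLocallySurjective_iff_epi']
  refine ⟨fun {U} w => ?_⟩
  rw [Groth.Agent.Etrest.BigEtSite.mem_J_iff]
  intro x
  obtain ⟨V, g, u, hg, hx, hu⟩ := exists_lift_unit (i := i) (Z := U) w x
  exact ⟨V, g, ⟨u, hu⟩, inferInstance, inferInstance, hx⟩

variable (i)

/-- An extension of `α : F ⟶ I` to `G_m`. -/
def iota : EtDl.GmF P ⟶ I i := Injective.factorThru (α i) (incl i)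

@[reassoc]
theorem incl_iota : incl i ≫ iota i = α i := Injective.comp_factorThru _ _

/-- The map `i_* G_m ⟶ Q`. -/
def chi [IsClosedImmersion i] : GY i ⟶ Q i :=
  (show (ShortComplex.mk (kernel.ι (EtDl.resGmF i)) (EtDl.resGmF i) (kernel.condition _)).Exact from
    ShortComplex.exact_kernel _).desc (iota i ≫ β i) (by
      change incl i ≫ iota i ≫ β i = 0
      rw [incl_iota_assoc, αβ])

theorem res_chi [IsClosedImmersion i] : EtDl.resGmF i ≫ chi i = iota i ≫ β i :=
  (show (ShortComplex.mk (kernel.ι (EtDl.resGmF i)) (EtDl.resGmF i) (kernel.condition _)).Exact from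
    ShortComplex.exact_kernel _).g_desc (iota i ≫ β i) (by
      change incl i ≫ iota i ≫ β i = 0
      rw [incl_iota_assoc, αβ])

theorem m_incl_iota {U : Over P} (s : Γs (F i) U) : m (iota i) U (m (incl i) U s) = m (α i) U s := by
  rw [← m_comp, incl_iota]

theorem m_res_chi [IsClosedImmersion i] {U : Over P} (s : Γs (EtDl.GmF P) U) :
    m (chi i) U (m (EtDl.resGmF i) U s) = m (β i) U (m (iota i) U s) := by
  rw [← m_comp, res_chi, m_comp]

theorem m_incl_res {U : Over P} (s : Γs (F i) U) : m (EtDl.resGmF i) U (m (incl i) U s) = 0 := by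
  rw [← m_comp, incl_res, m_zero]

theorem exists_incl {U : Over P} (s : Γs (EtDl.GmF P) U) (hs : m (EtDl.resGmF i) U s = 0) :
    ∃ t : Γs (F i) U, m (incl i) U t = s :=
  exists_of_exact (f := incl i) (g := EtDl.resGmF i) (incl_res i) (ShortComplex.exact_kernel _) s hs

section

variable {S : Scheme.{u}} (pbar : P ⟶ S) [IsClosedImmersion i]

/-- The boundary map on sections. -/
def delta {T : Over S} : Γs (GY i) (PO pbar T) →+ Γs (Jc pbar i) T := (cl pbar).comp (m (chi i) (PO pbar T))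

theorem delta_r {T T' : Over S} (g : T' ⟶ T) (w : Γs (GY i) (PO pbar T)) :
    delta i pbar (r (GY i) (POm pbar g) w) = r (Jc pbar i) g (delta i pbar w) := by
  change cl pbar (m (chi i) _ (r (GY i) (POm pbar g) w)) = r (Jc pbar i) g (cl pbar (m (chi i) _ w))
  rw [m_r, cl_r]

theorem delta_res {T : Over S} (u : Γs (EtDl.GmF P) (PO pbar T)) :
    delta i pbar (m (EtDl.resGmF i) _ u) = 0 := by
  change cl pbar (m (chi i) _ (m (EtDl.resGmF i) _ u)) = 0
  rw [m_res_chi, cl_β]

/-- The kernel of the boundary map. -/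
theorem exists_of_chi {Z : Over P} (w : Γs (GY i) Z) (b : Γs (I i) Z) (hb : m (β i) Z b = m (chi i) Z w) :
    ∃ u : Γs (EtDl.GmF P) Z, m (EtDl.resGmF i) Z u = w := by
  choose V g u hg hx hu using fun x : Z.left => exists_lift_unit (i := i) w x
  have hcov : IsCov g := fun x => ⟨x, by have := hg x; infer_instance, by have := hg x; infer_instance, hx x⟩
  have h1 : ∀ x, ∃ s : Γs (F i) (V x), m (α i) _ s = m (iota i) _ (u x) - r (I i) (g x) b := by
    intro x
    refine exists_α (i := i) _ ?_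
    rw [map_sub, ← m_res_chi, hu, m_r, m_r, hb, sub_self]
  choose s hs using h1
  have h2 : ∀ x, m (iota i) _ (u x - m (incl i) _ (s x)) = r (I i) (g x) b := by
    intro x
    rw [map_sub, m_incl_iota, hs]
    abel
  have h3 : ∀ x, m (EtDl.resGmF i) _ (u x - m (incl i) _ (s x)) = r (GY i) (g x) w := by
    intro x
    rw [map_sub, m_incl_res, sub_zero, hu]
  obtain ⟨v, hv⟩ := glue (EtDl.GmF P) hcov (fun x => u x - m (incl i) _ (s x)) (by
    intro x y Z' a a' haa'
    have h4 : m (EtDl.resGmF i) Z' (r (EtDl.GmF P) a (u x - m (incl i) _ (s x)) -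
        r (EtDl.GmF P) a' (u y - m (incl i) _ (s y))) = 0 := by
      rw [map_sub, m_r, m_r, h3, h3, r_r, r_r, r_congr _ haa', sub_self]
    obtain ⟨t, ht⟩ := exists_incl i _ h4
    have h5 : m (α i) Z' t = 0 := by
      rw [← m_incl_iota, ht, map_sub, m_r, m_r, h2, h2, r_r, r_r, r_congr _ haa', sub_self]
    have h6 : t = 0 := α_injective (by rw [h5, map_zero])
    rw [h6, map_zero] at ht
    exact (sub_eq_zero.1 ht.symm))
  refine ⟨v, sep (GY i) hcov _ _ fun x => ?_⟩
  rw [← m_r, hv, h3]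

theorem exists_of_delta_eq_zero (h0 : ∀ (T : Over S) (s : Γs (F i) (PO pbar T)), s = 0) {T : Over S}
    (w : Γs (GY i) (PO pbar T)) (hw : delta i pbar w = 0) :
    ∃ u : Γs (EtDl.GmF P) (PO pbar T), m (EtDl.resGmF i) _ u = w := by
  obtain ⟨b, hb⟩ := PushInj.exists_of_cl_eq_zero_global pbar i h0 (m (chi i) _ w) hw
  exact exists_of_chi i w b hb

end

end K412.Delta
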