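import Groth.Agent.Cohder.RDLES
import Groth.Agent.Etrest.Eff

/-!
# Two abstract lemmas on `R^1`
-/

set_option autoImplicit false
universe v₁ v₂ v₃ u₁ u₂ u₃
open CategoryTheory CategoryTheory.Limits

noncomputable section

namespace K412.RAbs

variable {A : Type u₁} [Category.{v₁} A] [Abelian A] [EnoughInjectives A]
  {B : Type u₂} [Category.{v₂} B] [Abelian B]

/-- `R^1 G(X₁) = R^1 G(X₂)` if `G(X₂) ⟶ G(X₃)` is epi and `R^1 G (X₃) = 0`. -/
theorem isIso_map (G : A ⥤ B) [G.Additive] [PreservesFiniteLimits G] {S : ShortComplex A} (hS : S.ShortExact)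
    (he : Epi (G.map S.g)) (h : IsZero ((G.rightDerived 1).obj S.X₃)) : IsIso ((G.rightDerived 1).map S.f) := by
  obtain ⟨-, h2, δ, hδ⟩ := Groth.Agent.Cohder.RDLES.exists_les G hS
  obtain ⟨w₁, w₂, h3, h4⟩ := hδ 0
  have h5 : Epi ((G.rightDerived 0).map S.g) := by
    have h6 : (G.rightDerived 0).map S.g = (G.rightDerivedZeroIsoSelf.app _).hom ≫ G.map S.g ≫
        (G.rightDerivedZeroIsoSelf.app _).inv := by
      rw [← Category.assoc, Iso.eq_comp_inv]
      exact G.rightDerivedZeroIsoSelf.hom.naturality S.g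
    rw [h6]
    infer_instance
  have h7 : δ 0 = 0 := by
    rw [← cancel_epi ((G.rightDerived 0).map S.g), w₁, comp_zero]
  have h8 : Mono ((G.rightDerived 1).map S.f) := h4.mono_g h7
  have h9 : Epi ((G.rightDerived 1).map S.f) :=
    (h2 1 (h.eq_of_tgt _ _)).epi_f (h.eq_of_tgt _ _)
  exact isIso_of_mono_of_epi _

variable [EnoughInjectives B] {C : Type u₃} [Category.{v₃} C] [Abelian C]

/-- `R^1 G (F X) = 0` if `F` preserves injectives and `F ⋙ G` is exact. -/
theorem isZero_one (F : A ⥤ B) [F.Additive] [PreservesFiniteLimits F] (hF : ∀ I : A, Injective I → Injective (F.obj I))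
    (G : B ⥤ C) [G.Additive] [PreservesFiniteLimits G]
    (hFG : ∀ {X Y : A} (f : X ⟶ Y), Epi f → Epi (G.map (F.map f))) (X : A) :
    IsZero ((G.rightDerived 1).obj (F.obj X)) := by
  let J := Injective.under X
  let a : X ⟶ J := Injective.ι X
  let b : J ⟶ cokernel a := cokernel.π a
  have hJ : Injective (F.obj J) := hF J inferInstance
  have h1 : IsZero ((G.rightDerived 1).obj (F.obj J)) := Functor.isZero_rightDerived_obj_injective_succ _ 0 _
  have ha : Mono (F.map a) := inferInstance
  let S : ShortComplex B := ShortComplex.mk (F.map a) (cokernel.π (F.map a)) (cokernel.condition _)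
  have hS : S.ShortExact := { exact := ShortComplex.exact_cokernel _ }
  obtain ⟨e⟩ := Groth.Agent.Etrest.Eff.nonempty_iso_cokernel G hS h1
  refine IsZero.of_iso ?_ e
  -- the map to `F C`
  have hw : F.map a ≫ F.map b = 0 := by rw [← F.map_comp, cokernel.condition, F.map_zero]
  let c : cokernel (F.map a) ⟶ F.obj (cokernel a) := cokernel.desc _ (F.map b) hw
  have hc : Mono c := by
    have h2 : (ShortComplex.mk (F.map a) (F.map b) hw).Exact := by
      have h3 : (ShortComplex.mk a b (cokernel.condition a)).Exact := ShortComplex.exact_cokernel _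
      exact ShortComplex.Exact.map_of_mono_of_preservesKernel h3 F (inferInstanceAs (Mono a)) inferInstance
    exact (ShortComplex.exact_iff_mono_cokernel_desc (ShortComplex.mk (F.map a) (F.map b) hw)).1 h2
  have h2 : G.map (cokernel.π (F.map a)) ≫ G.map c = G.map (F.map b) := by
    rw [← G.map_comp, cokernel.π_desc]
  have h3 : Epi (G.map (F.map b)) := hFG b inferInstance
  have h4 : Mono (G.map c) := inferInstance
  have h5 : Epi (G.map c) := by
    have : Epi (G.map (cokernel.π (F.map a)) ≫ G.map c) := by rw [h2]; exact h3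
    exact epi_of_epi (G.map (cokernel.π (F.map a))) (G.map c)
  have h6 : IsIso (G.map c) := isIso_of_mono_of_epi _
  have h7 : Epi (G.map (cokernel.π (F.map a))) := by
    have h8 : G.map (cokernel.π (F.map a)) = G.map (F.map b) ≫ inv (G.map c) := by
      rw [← h2, Category.assoc, IsIso.hom_inv_id, Category.comp_id]
    rw [h8]
    infer_instance
  exact isZero_cokernel_of_epi _

end K412.RAbs
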