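import Groth.Agent.PicF.K412.Fact
import Groth.Agent.PicF.K412.RAbs

/-!
# The case of an empty closed subscheme: replacing it by a point
-/

set_option autoImplicit false
universe u
open CategoryTheory CategoryTheory.Limits AlgebraicGeometry Opposite

noncomputable section

namespace K412.Empty

open Groth.Agent.Etdl.H432.Sec Groth.Agent.Etdl.H432.Un Groth.Agent.Etdl.H494.Gamma
  Groth.Agent.Etdl.H494 K412.Delta K412.Ev K412.EvY

variable {S X : Scheme.{u}} (π : X ⟶ S) (x₀ : S ⟶ X) (hx₀ : x₀ ≫ π = 𝟙 S)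

include hx₀ in
/-- Evaluation data of the base. -/
theorem exists_evDat : Nonempty (EvDat (x₀ ≫ π) (Fin 1)) :=
  ⟨{  y := fun _ => 𝟙 S
      hy := fun _ => by rw [hx₀, Category.comp_id]
      e := fun _ => 1
      he := fun l n => by rw [if_pos (Subsingleton.elim l n), map_one]
      inj := fun z hz => by
        have h := hz 0
        have h1 : (𝟙 S : S ⟶ S).appTop.hom z = z := by simp
        exact h1.symm.trans h }⟩

/-- Epimorphisms are the locally surjective morphisms. -/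
theorem epi_of_local {S : Scheme.{u}} {H H' : EtFppf.AbF S} (φ : H ⟶ H')
    (h : ∀ (U : Over S) (t : Γs H' U) (x : U.left), ∃ (V : Over S) (g : V ⟶ U) (s : Γs H V), Flat g.left ∧
      LocallyOfFinitePresentation g.left ∧ x ∈ Set.range g.left ∧ m φ V s = r H' g t) : Epi φ := by
  rw [← Sheaf.isLocallySurjective_iff_epi']
  refine ⟨fun {U} t => ?_⟩
  rw [Groth.Agent.Etrest.BigEtSite.mem_J_iff]
  intro x
  obtain ⟨V, g, s, h1, h2, h3, h4⟩ := h U t x
  exact ⟨V, g, ⟨s, h4⟩, h1, h2, h3⟩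

include hx₀ in
theorem epi_push_res [IsAffine S] [QuasiCompact π] [QuasiSeparated π] (hfl : ∀ T : Over S, Flat T.hom) :
    Epi ((EtFppf.pushBig π).map (EtDl.resGmF x₀)) := by
  obtain ⟨D⟩ := exists_evDat π x₀ hx₀
  have hqc : QuasiCompact (x₀ ≫ π) := by rw [hx₀]; infer_instance
  have hqs : QuasiSeparated (x₀ ≫ π) := by rw [hx₀]; infer_instance
  refine epi_of_local _ fun T w x => ?_
  obtain ⟨V, hV, hx, -⟩ := exists_isAffineOpen_mem_and_subset (x := x) (U := (⊤ : T.left.Opens)) trivial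
  have hAff : IsAffine (opn T V).left := hV
  have h2 := hfl (opn T V)
  let w' : Γs (GY x₀) (PO π (opn T V)) := r (GY x₀) (POm π (opnι T V)) w
  obtain ⟨u, hu⟩ := exists_unit (i := x₀) D (T := opn T V) (evY D 0 w') (evY_isUnit D 0 w')
  refine ⟨opn T V, opnι T V, u, inferInstanceAs (Flat V.ι), inferInstanceAs (LocallyOfFinitePresentation V.ι), ⟨⟨x, hx⟩, rfl⟩, ?_⟩
  change m (EtDl.resGmF x₀) (PO π (opn T V)) u = w'
  refine evY_ext D _ _ fun l => ?_
  rw [hu, Subsingleton.elim l 0]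

/-- `T ⟶ x₀^* π^* T`. -/
def un0 (T : Over S) : T ⟶ (Over.pullback x₀).obj (PO π T) :=
  Over.homMk (pullback.lift (pullback.lift (𝟙 _) (T.hom ≫ x₀) (by rw [Category.assoc, hx₀, Category.comp_id, Category.id_comp]))
    T.hom (pullback.lift_snd _ _ _)) (pullback.lift_snd _ _ _)

/-- `x₀^* π^* T ⟶ T`. -/
def co0 (T : Over S) : (Over.pullback x₀).obj (PO π T) ⟶ T :=
  Over.homMk (pullback.fst (PO π T).hom x₀ ≫ pullback.fst T.hom π) (by
    change (pullback.fst (PO π T).hom x₀ ≫ pullback.fst T.hom π) ≫ T.hom = pullback.snd (PO π T).hom x₀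
    have h1 : pullback.fst (PO π T).hom x₀ ≫ (PO π T).hom = pullback.snd (PO π T).hom x₀ ≫ x₀ := pullback.condition
    rw [Category.assoc, pullback.condition]
    refine ((Category.assoc _ _ _).symm.trans (congrArg (· ≫ π) h1)).trans ?_
    rw [Category.assoc, hx₀, Category.comp_id])

theorem un0_co0 (T : Over S) : un0 π x₀ hx₀ T ≫ co0 π x₀ hx₀ T = 𝟙 T := by
  ext1
  change pullback.lift _ _ _ ≫ pullback.fst (PO π T).hom x₀ ≫ pullback.fst T.hom π = 𝟙 _
  rw [pullback.lift_fst_assoc, pullback.lift_fst]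

theorem co0_un0 (T : Over S) : co0 π x₀ hx₀ T ≫ un0 π x₀ hx₀ T = 𝟙 _ := by
  ext1
  have h1 : pullback.fst (PO π T).hom x₀ ≫ (PO π T).hom = pullback.snd (PO π T).hom x₀ ≫ x₀ := pullback.condition
  have h2 : (co0 π x₀ hx₀ T).left ≫ T.hom = pullback.snd (PO π T).hom x₀ := Over.w (co0 π x₀ hx₀ T)
  change (co0 π x₀ hx₀ T).left ≫ pullback.lift _ _ _ = 𝟙 (pullback (PO π T).hom x₀)
  apply pullback.hom_ext
  · rw [Category.assoc, pullback.lift_fst]
    refine Eq.trans ?_ (Category.id_comp _).symm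
    apply pullback.hom_ext
    · rw [Category.assoc, pullback.lift_fst, Category.comp_id]
      rfl
    · rw [Category.assoc, pullback.lift_snd, ← Category.assoc, h2]
      exact h1.symm
  · rw [Category.assoc, pullback.lift_snd]
    exact h2.trans (Category.id_comp _).symm

theorem co0_nat {T T' : Over S} (g : T' ⟶ T) :
    (Over.pullback x₀).map (POm π g) ≫ co0 π x₀ hx₀ T = co0 π x₀ hx₀ T' ≫ g := by
  ext1
  change ((Over.pullback x₀).map (POm π g)).left ≫ pullback.fst (PO π T).hom x₀ ≫ pullback.fst T.hom π =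
    (pullback.fst (PO π T').hom x₀ ≫ pullback.fst T'.hom π) ≫ g.left
  have h1 : ((Over.pullback x₀).map (POm π g)).left ≫ pullback.fst (PO π T).hom x₀ =
      pullback.fst (PO π T').hom x₀ ≫ (POm π g).left := pullback.lift_fst _ _ _
  rw [reassoc_of% h1, PTmap_fst, Category.assoc]

include hx₀ in
theorem epi_push_push {H H' : EtFppf.AbF S} (φ : H ⟶ H') (hφ : Epi φ) :
    Epi ((EtFppf.pushBig π).map ((EtFppf.pushBig x₀).map φ)) := by
  refine epi_of_local _ fun T t x => ?_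
  let t' : Γs H' T := r H' (un0 π x₀ hx₀ T) t
  obtain ⟨V, g, s, h1, h2, h3, h4⟩ := exists_lift φ t' x
  refine ⟨V, g, r H (co0 π x₀ hx₀ V) s, h1, h2, h3, ?_⟩
  change m φ ((Over.pullback x₀).obj (PO π V)) (r H (co0 π x₀ hx₀ V) s) = r H' ((Over.pullback x₀).map (POm π g)) t
  rw [m_r, h4, r_r, ← co0_nat π x₀ hx₀ g, ← r_r]
  have h5 : r H' (co0 π x₀ hx₀ T) t' = (show Γs H' ((Over.pullback x₀).obj (PO π T)) from t) :=
    (r_r H' (un0 π x₀ hx₀ T) (co0 π x₀ hx₀ T) t).trans ((r_congr H' (co0_un0 π x₀ hx₀ T) t).trans (r_id H' t))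
  rw [h5]

include hx₀ in
theorem isZero_R1 (H : EtFppf.AbF S) :
    IsZero ((EtFppf.RpushBig π 1).obj ((EtFppf.pushBig x₀).obj H)) :=
  RAbs.isZero_one (EtFppf.pushBig x₀) (fun _ _ => (EtFppf.pushBig x₀).injective_obj_of_injective inferInstance)
    (EtFppf.pushBig π) (fun φ hφ => epi_push_push π x₀ hx₀ φ hφ) H

include hx₀ in
/-- The `R^1` of the pair `(X, x₀)`. -/
theorem nonempty_iso_point [IsAffine S] [QuasiCompact π] [QuasiSeparated π] [IsClosedImmersion x₀]
    (hfl : ∀ T : Over S, Flat T.hom) :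
    Nonempty ((EtFppf.RpushBig π 1).obj (EtDl.GmMod x₀) ≅ (EtFppf.RpushBig π 1).obj (EtDl.GmF X)) := by
  let Sc : ShortComplex (EtFppf.AbF X) := ShortComplex.mk (kernel.ι (EtDl.resGmF x₀)) (EtDl.resGmF x₀) (kernel.condition _)
  have hepi : Epi (EtDl.resGmF x₀) := inferInstance
  have hS : Sc.ShortExact := { exact := ShortComplex.exact_kernel _, epi_g := hepi }
  have h1 := RAbs.isIso_map (EtFppf.pushBig π) hS (epi_push_res π x₀ hx₀ hfl) (isZero_R1 π x₀ hx₀ _)
  exact ⟨@asIso _ _ _ _ _ h1⟩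

/-- `G_m(m) = G_m` for the empty closed subscheme. -/
theorem nonempty_iso_empty {Y : Scheme.{u}} (i : Y ⟶ X) [IsEmpty Y] : Nonempty (EtDl.GmMod i ≅ EtDl.GmF X) := by
  have h0 : EtDl.resGmF i = 0 := by
    ext U x
    have hemp : IsEmpty ↥(pullback U.unop.hom i) := Function.isEmpty (pullback.snd U.unop.hom i)
    have hsub : Subsingleton Γ(pullback U.unop.hom i, ⊤) := inferInstance
    apply yv_injective i (Z := U.unop)
    exact Units.ext (Subsingleton.elim _ _)
  have h1 : IsIso (kernel.ι (EtDl.resGmF i)) := by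
    rw [h0]
    infer_instance
  exact ⟨@asIso _ _ _ _ _ h1⟩

end K412.Empty
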