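import Groth.Agent.Models.H74.H0Card
import Groth.Agent.Etdl.H494.Gamma
import Groth.Agent.Ega3B.SteinComp

/-!
# Evaluation at points: functions on `Z_T` for `Z` proper reduced over an algebraically closed field
-/

set_option autoImplicit false
universe u
open CategoryTheory CategoryTheory.Limits AlgebraicGeometry Opposite TopologicalSpace

noncomputable section

namespace K412.Ev

/-- Points `y l` of `f : Z ⟶ S` and dual idempotents. -/
structure EvDat {Z S : Scheme.{u}} (f : Z ⟶ S) (ι : Type*) [DecidableEq ι] where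
  /-- the points -/
  y : ι → (S ⟶ Z)
  hy : ∀ l, y l ≫ f = 𝟙 S
  /-- the idempotents -/
  e : ι → Γ(Z, ⊤)
  he : ∀ l n, (y l).appTop.hom (e n) = if l = n then 1 else 0
  inj : ∀ z : Γ(Z, ⊤), (∀ l, (y l).appTop.hom z = 0) → z = 0

theorem ι_appTop_eq {Z : Scheme.{u}} (V : Z.Opens) (z : Γ(Z, ⊤)) (w : Γ(Z, V))
    (h : Z.presheaf.map (homOfLE (le_top (a := V))).op z = w) :
    V.ι.appTop.hom z = V.topIso.inv.hom w := by
  subst h
  rw [Scheme.Opens.ι_appTop, Scheme.Opens.topIso_inv]
  change (Z.presheaf.map _).hom z = (Z.presheaf.map _).hom ((Z.presheaf.map _).hom z)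
  rw [← CommRingCat.comp_apply, ← Functor.map_comp]
  rfl

theorem exists_evDat {k : Type u} [Field k] [IsAlgClosed k] {Z : Scheme.{u}}
    (f : Z ⟶ Spec (CommRingCat.of k)) [IsProper f] [IsReduced Z] (c : ℕ)
    (hc : Nat.card (_root_.ConnectedComponents Z) = c) :
    Nonempty (EvDat f (Fin c)) := by
  have hN : IsNoetherian Z := Groth.Agent.CurvesB.GenusLib.isNoetherian_of_proper f
  have hL : LocallyConnectedSpace Z := Groth.Agent.S2277.result Z fun x =>
    ⟨Set.univ, Filter.univ_mem, NoetherianSpace.set _⟩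
  have hfin : Finite (_root_.ConnectedComponents Z) := inferInstance
  let ε : _root_.ConnectedComponents Z ≃ Fin c := (Finite.equivFinOfCardEq hc)
  let W : _root_.ConnectedComponents Z → Z.Opens := fun c =>
    ⟨(_root_.ConnectedComponents.mk : Z → _root_.ConnectedComponents Z) ⁻¹' {c},
      (isOpen_discrete {c}).preimage _root_.ConnectedComponents.continuous_coe⟩
  have hWcl : ∀ c, IsClosed (W c : Set Z) := fun c =>
    (isClosed_discrete {c}).preimage _root_.ConnectedComponents.continuous_coe
  have hWconn : ∀ c, _root_.IsConnected (W c : Set Z) := by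
    intro c
    obtain ⟨x, rfl⟩ := _root_.ConnectedComponents.surjective_coe c
    have h1 : (W (_root_.ConnectedComponents.mk x) : Set Z) = connectedComponent x :=
      connectedComponents_preimage_singleton
    rw [h1]
    exact isConnected_connectedComponent
  have hd : ∀ c d, c ≠ d → W c ⊓ W d = ⊥ := by
    intro c d hcd
    rw [eq_bot_iff]
    rintro x ⟨hx, hy⟩
    exact hcd ((Set.mem_singleton_iff.mp hx).symm.trans (Set.mem_singleton_iff.mp hy))
  have hcov : ⊤ ≤ iSup W := fun x _ => Opens.mem_iSup.mpr ⟨_root_.ConnectedComponents.mk x, rfl⟩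
  have h1 : ∀ c, ∃ s : Spec (CommRingCat.of k) ⟶ (W c).toScheme, s ≫ (W c).ι ≫ f = 𝟙 _ := by
    intro c
    have : ConnectedSpace (W c).toScheme := isConnected_iff_connectedSpace.mp (hWconn c)
    exact Groth.Agent.Etdl.H494.Gamma.exists_section ((W c).ι ≫ f)
  choose y' hy' using h1
  classical
  choose e he using fun m => Groth.Agent.Models.H74.H0Card.exists_glue W hd hcov (fun l => if l = m then (1 : Γ(Z, W l)) else 0)
  refine ⟨⟨fun l => y' (ε.symm l) ≫ (W (ε.symm l)).ι, fun l => ?_, fun m => e (ε.symm m), fun l m => ?_, fun z hz => ?_⟩⟩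
  · rw [Category.assoc, hy']
  · rw [Scheme.Hom.comp_appTop, CommRingCat.comp_apply, ι_appTop_eq _ _ _ (he (ε.symm m) (ε.symm l))]
    by_cases hlm : l = m
    · subst hlm
      rw [if_pos rfl, if_pos rfl, map_one, map_one]
    · rw [if_neg hlm, if_neg (fun h => hlm (ε.symm.injective h)), map_zero, map_zero]
  · refine TopCat.Sheaf.eq_of_locally_eq' Z.sheaf W ⊤ (fun c => homOfLE le_top) hcov _ _ ?_
    intro l
    refine Eq.trans ?_ (map_zero (Z.presheaf.map (homOfLE (le_top (a := W l))).op).hom).symm
    have h2 : (y' l ≫ (W l).ι).appTop.hom z = 0 := by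
      obtain ⟨l', rfl⟩ := ε.symm.surjective l
      exact hz l'
    clear hz
    have hcl : IsClosedImmersion (W l).ι := .of_isPreimmersion _ (by simpa using hWcl l)
    have hconn : ConnectedSpace (W l).toScheme := isConnected_iff_connectedSpace.mp (hWconn l)
    obtain ⟨s, hs⟩ := (Groth.Agent.PerfA.H0AlgClosed.bijective_str_of_isAlgClosed ((W l).ι ≫ f)).2 ((W l).ι.appTop.hom z)
    have h3 : Groth.Agent.PerfA.CechH0.str ((W l).ι ≫ f) ⊤ s =
        ((W l).ι ≫ f).appTop.hom ((Scheme.ΓSpecIso (CommRingCat.of k)).inv.hom s) := by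
      have h3 : ((W l).ι ≫ f).appLE ⊤ ⊤ (Groth.Agent.PerfA.CechH0.le_preimage_top ((W l).ι ≫ f) ⊤) = ((W l).ι ≫ f).appTop := by
        rw [Scheme.Hom.appTop, Scheme.Hom.app_eq_appLE]; rfl
      rw [Groth.Agent.PerfA.CechH0.str, h3]
      rfl
    rw [Scheme.Hom.comp_appTop, CommRingCat.comp_apply, ← hs, h3, ← CommRingCat.comp_apply, ← Scheme.Hom.comp_appTop,
      hy'] at h2
    have h4 : (Scheme.ΓSpecIso (CommRingCat.of k)).inv.hom s = 0 := by
      have h5 : (𝟙 (Spec (CommRingCat.of k)) : Spec (CommRingCat.of k) ⟶ _).appTop.hom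
        ((Scheme.ΓSpecIso (CommRingCat.of k)).inv.hom s) = (Scheme.ΓSpecIso (CommRingCat.of k)).inv.hom s := by simp
      exact h5.symm.trans h2
    rw [h3, h4, map_zero] at hs
    have h6 := ι_appTop_eq (W l) z _ rfl
    rw [← hs] at h6
    have h7 := congrArg (W l).topIso.hom.hom h6
    rw [map_zero, ← CommRingCat.comp_apply, Iso.inv_hom_id] at h7
    exact h7.symm

section BC

variable {Z S T ZT : Scheme.{u}} {f : Z ⟶ S} {ι : Type*} [DecidableEq ι] (D : EvDat f ι)
  {g : ZT ⟶ Z} {p : ZT ⟶ T} {b : T ⟶ S} (H : IsPullback g p f b)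

/-- The points of `Z_T`. -/
def pt (l : ι) : T ⟶ ZT := H.lift (b ≫ D.y l) (𝟙 T) (by rw [Category.assoc, D.hy, Category.comp_id, Category.id_comp])

@[reassoc]
theorem pt_p (l : ι) : pt D H l ≫ p = 𝟙 T := H.lift_snd _ _ _

@[reassoc]
theorem pt_g (l : ι) : pt D H l ≫ g = b ≫ D.y l := H.lift_fst _ _ _

theorem appTop_pt_e (l n : ι) : (pt D H l).appTop.hom (g.appTop.hom (D.e n)) = if l = n then 1 else 0 := by
  rw [← CommRingCat.comp_apply, ← Scheme.Hom.comp_appTop, pt_g, Scheme.Hom.comp_appTop, CommRingCat.comp_apply, D.he]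
  split_ifs <;> simp

theorem appTop_pt_p (l : ι) (a : Γ(T, ⊤)) : (pt D H l).appTop.hom (p.appTop.hom a) = a := by
  rw [← CommRingCat.comp_apply, ← Scheme.Hom.comp_appTop, pt_p]
  simp

variable [Fintype ι]

/-- Surjectivity of the evaluation. -/
theorem exists_fun (a : ι → Γ(T, ⊤)) : ∃ z : Γ(ZT, ⊤), ∀ l, (pt D H l).appTop.hom z = a l := by
  refine ⟨∑ n, p.appTop.hom (a n) * g.appTop.hom (D.e n), fun l => ?_⟩
  rw [map_sum]
  simp only [map_mul, appTop_pt_e, appTop_pt_p]
  simp

omit [Fintype ι] in
theorem e_mul (l n : ι) : D.e l * D.e n = if l = n then D.e l else 0 := by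
  rw [← sub_eq_zero]
  apply D.inj
  intro o
  rw [map_sub, map_mul, D.he, D.he]
  split_ifs with h1 h2 h3 <;> simp_all [D.he]

theorem sum_e : ∑ n, D.e n = 1 := by
  rw [← sub_eq_zero]
  apply D.inj
  intro o
  rw [map_sub, map_sum, map_one]
  simp [D.he]

theorem eq_sum (z : Γ(Z, ⊤)) : z = ∑ n, f.appTop.hom ((D.y n).appTop.hom z) * D.e n := by
  rw [← sub_eq_zero]
  apply D.inj
  intro o
  rw [map_sub, map_sum]
  simp only [map_mul, D.he]
  have h1 : ∀ s, (D.y o).appTop.hom (f.appTop.hom s) = s := by
    intro s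
    rw [← CommRingCat.comp_apply, ← Scheme.Hom.comp_appTop, D.hy]
    simp
  simp [h1]

/-- Injectivity of the evaluation. -/
theorem fun_ext [IsAffine S] [IsAffine T] [QuasiCompact f] [QuasiSeparated f] [Flat b] (z z' : Γ(ZT, ⊤))
    (h : ∀ l, (pt D H l).appTop.hom z = (pt D H l).appTop.hom z') : z = z' := by
  have hpo := Groth.Agent.Ega3B.SteinComp.isPushout_appTop H
  have key : ∀ z : Γ(ZT, ⊤), z = ∑ n, p.appTop.hom ((pt D H n).appTop.hom z) * g.appTop.hom (D.e n) := by
    let R : Subring Γ(ZT, ⊤) :=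
      { carrier := {z | z = ∑ n, p.appTop.hom ((pt D H n).appTop.hom z) * g.appTop.hom (D.e n)}
        mul_mem' := by
          intro z w hz hw
          change z * w = _
          conv_lhs => rw [show z = _ from hz, show w = _ from hw]
          rw [Finset.sum_mul_sum]
          refine Finset.sum_congr rfl fun n _ => ?_
          rw [Finset.sum_eq_single n]
          · have h1 : g.appTop.hom (D.e n) * g.appTop.hom (D.e n) = g.appTop.hom (D.e n) := by
              rw [← map_mul, e_mul, if_pos rfl]
            rw [map_mul, map_mul]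
            linear_combination (p.appTop.hom ((pt D H n).appTop.hom z) * p.appTop.hom ((pt D H n).appTop.hom w)) * h1
          · intro n' _ hn
            have h1 : g.appTop.hom (D.e n) * g.appTop.hom (D.e n') = 0 := by
              rw [← map_mul, e_mul, if_neg (Ne.symm hn), map_zero]
            linear_combination (p.appTop.hom ((pt D H n).appTop.hom z) * p.appTop.hom ((pt D H n').appTop.hom w)) * h1
          · intro h; exact absurd (Finset.mem_univ _) h
        one_mem' := by
          change (1 : Γ(ZT, ⊤)) = _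
          simp only [map_one, one_mul]
          rw [← map_sum, sum_e, map_one]
        add_mem' := by
          intro z w hz hw
          change z + w = _
          conv_lhs => rw [show z = _ from hz, show w = _ from hw]
          simp only [map_add, add_mul, Finset.sum_add_distrib]
        zero_mem' := by
          change (0 : Γ(ZT, ⊤)) = _
          simp
        neg_mem' := by
          intro z hz
          change -z = _
          conv_lhs => rw [show z = _ from hz]
          simp only [map_neg, neg_mul, Finset.sum_neg_distrib] }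
    intro z
    refine Groth.Agent.Ega3B.SteinComp.isPushout_induction hpo R ?_ ?_ z
    · intro a
      change g.appTop.hom a = ∑ n, p.appTop.hom ((pt D H n).appTop.hom (g.appTop.hom a)) * g.appTop.hom (D.e n)
      have h2 : ∀ n, p.appTop.hom ((pt D H n).appTop.hom (g.appTop.hom a)) =
          g.appTop.hom (f.appTop.hom ((D.y n).appTop.hom a)) := by
        intro n
        have h3 : (p ≫ pt D H n) ≫ g = (g ≫ f) ≫ D.y n := by
          rw [Category.assoc, pt_g, ← Category.assoc, ← H.w]
        have h4 := congrArg (fun φ => (Scheme.Hom.appTop φ).hom a) h3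
        simp only [Scheme.Hom.comp_appTop] at h4
        exact h4
      simp only [h2]
      conv_lhs => rw [eq_sum D a]
      rw [map_sum]
      simp only [map_mul]
    · intro a
      change p.appTop.hom a = ∑ n, p.appTop.hom ((pt D H n).appTop.hom (p.appTop.hom a)) * g.appTop.hom (D.e n)
      simp only [appTop_pt_p]
      rw [← Finset.mul_sum, ← map_sum, sum_e, map_one, mul_one]
  rw [key z, key z']
  simp only [h]

end BC

end K412.Ev
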