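import Groth.Agent.PicF.K412.Ev
import Groth.Agent.PicF.K412.Delta
import Groth.Agent.Etdl.H494.Defs

/-!
# Evaluation of the sections of `i_* G_m` over `X_T` at the points of `Y`
-/

set_option autoImplicit false
universe u
open CategoryTheory CategoryTheory.Limits AlgebraicGeometry Opposite

noncomputable section

namespace K412.EvY

open Groth.Agent.Etdl.H432.Sec Groth.Agent.Etdl.H432.Un Groth.Agent.Etdl.H494.Gamma
  Groth.Agent.Etdl.H494 K412.Delta K412.Ev

variable {S X Y : Scheme.{u}} (π : X ⟶ S) (i : Y ⟶ X)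

theorem HX (T : Over S) : IsPullback (pullback.snd T.hom π) (pullback.fst T.hom π) π T.hom :=
  (IsPullback.of_hasPullback T.hom π).flip

theorem HY (T : Over S) : IsPullback (pullback.snd (PO π T).hom i)
    (pullback.fst (PO π T).hom i ≫ pullback.fst T.hom π) (i ≫ π) T.hom :=
  (IsPullback.of_hasPullback (PO π T).hom i).flip.paste_vert (HX π T)

variable {π i} {ι : Type*} [DecidableEq ι] (D : EvDat (i ≫ π) ι)

/-- The point of `Y_T`. -/
abbrev ptY (T : Over S) (l : ι) : T.left ⟶ pullback (PO π T).hom i := pt D (HY π i T) l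

theorem ptY_mapY {T T' : Over S} (g : T' ⟶ T) (l : ι) : ptY D T' l ≫ mapY i (POm π g) = g.left ≫ ptY D T l := by
  apply (HY π i T).hom_ext
  · have h1 : mapY i (POm π g) ≫ pullback.snd (PO π T).hom i = pullback.snd (PO π T').hom i :=
      (pullback.lift_snd _ _ _).trans (Category.comp_id _)
    rw [Category.assoc, h1, pt_g, Category.assoc, pt_g, ← Category.assoc, Over.w]
  · have h2 : ptY D T' l ≫ pullback.fst (PO π T').hom i ≫ pullback.fst T'.hom π = 𝟙 _ := pt_p D (HY π i T') l
    have h3 : ptY D T l ≫ pullback.fst (PO π T).hom i ≫ pullback.fst T.hom π = 𝟙 _ := pt_p D (HY π i T) l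
    have h4 : (POm π g).left ≫ pullback.fst T.hom π = pullback.fst T'.hom π ≫ g.left := PTmap_fst π g
    rw [Category.assoc, Category.assoc, h3, Category.comp_id, reassoc_of% (mapY_fst i (POm π g)), h4,
      ← Category.assoc, ← Category.assoc, Category.assoc _ _ (pullback.fst T'.hom π), h2, Category.id_comp]

/-- Evaluation at the points of `Y`. -/
def evY {T : Over S} (l : ι) (w : Γs (GY i) (PO π T)) : Γ(T.left, ⊤) :=
  (ptY D T l).appTop.hom (yv i w : Γ(pullback (PO π T).hom i, ⊤))

theorem evY_r {T T' : Over S} (g : T' ⟶ T) (l : ι) (w : Γs (GY i) (PO π T)) :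
    evY D l (r (GY i) (POm π g) w) = g.left.appTop.hom (evY D l w) := by
  rw [evY, yv_r]
  have h1 := congrArg (fun φ => (Scheme.Hom.appTop φ).hom (yv i w : Γ(pullback (PO π T).hom i, ⊤))) (ptY_mapY D g l)
  simp only [Scheme.Hom.comp_appTop] at h1
  exact h1

theorem evY_add {T : Over S} (l : ι) (w w' : Γs (GY i) (PO π T)) : evY D l (w + w') = evY D l w * evY D l w' := by
  rw [evY, yv_add, Units.val_mul, map_mul]
  rfl

theorem evY_zero {T : Over S} (l : ι) : evY D l (0 : Γs (GY i) (PO π T)) = 1 := by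
  have h1 : yv i (0 : Γs (GY i) (PO π T)) = 1 := by
    have h2 := yv_add i (0 : Γs (GY i) (PO π T)) 0
    rw [add_zero] at h2
    exact (mul_eq_left.1 h2.symm)
  rw [evY, h1, Units.val_one, map_one]

theorem evY_isUnit {T : Over S} (l : ι) (w : Γs (GY i) (PO π T)) : IsUnit (evY D l w) := (Units.isUnit _).map _

theorem evY_neg_mul {T : Over S} (l : ι) (w : Γs (GY i) (PO π T)) : evY D l (-w) * evY D l w = 1 := by
  rw [← evY_add, neg_add_cancel, evY_zero]

variable [Fintype ι] [IsAffine S]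

theorem evY_ext {T : Over S} [IsAffine T.left] [QuasiCompact (i ≫ π)] [QuasiSeparated (i ≫ π)] [Flat T.hom]
    (w w' : Γs (GY i) (PO π T)) (h : ∀ l, evY D l w = evY D l w') : w = w' := by
  apply yv_injective i
  apply Units.ext
  exact fun_ext D (HY π i T) _ _ h

omit [IsAffine S] in
theorem exists_evY' {T : Over S} (a : ι → Γ(T.left, ⊤)) : ∃ z : Γ(pullback (PO π T).hom i, ⊤),
    ∀ l, (ptY D T l).appTop.hom z = a l := exists_fun D (HY π i T) a

theorem exists_evY {T : Over S} [IsAffine T.left] [QuasiCompact (i ≫ π)] [QuasiSeparated (i ≫ π)] [Flat T.hom]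
    (a : ι → Γ(T.left, ⊤)) (ha : ∀ l, IsUnit (a l)) : ∃ w : Γs (GY i) (PO π T), ∀ l, evY D l w = a l := by
  choose a' ha' using fun l => (ha l).exists_right_inv
  obtain ⟨z, hz⟩ := exists_evY' (T := T) D a
  obtain ⟨z', hz'⟩ := exists_evY' (T := T) D a'
  have h1 : z * z' = 1 := fun_ext D (HY π i T) _ _ fun l => by
    have e1 : (pt D (HY π i T) l).appTop.hom z = a l := hz l
    have e2 : (pt D (HY π i T) l).appTop.hom z' = a' l := hz' l
    rw [map_mul, e1, e2, ha', map_one]
  obtain ⟨w, hw⟩ := yv_surjective i (Z := PO π T) (IsUnit.of_mul_eq_one _ h1).unit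
  refine ⟨w, fun l => ?_⟩
  rw [evY, hw]
  exact hz l

section X

variable (D₀ : EvDat π (Fin 1))

include D₀ in
/-- Functions on `X_T` are constant along `X`. -/
theorem const_X {T : Over S} [IsAffine T.left] [QuasiCompact π] [QuasiSeparated π] [Flat T.hom]
    (u : Γ(pullback T.hom π, ⊤)) (σ : T.left ⟶ pullback T.hom π) (hσ : σ ≫ pullback.fst T.hom π = 𝟙 _) :
    u = (pullback.fst T.hom π).appTop.hom (σ.appTop.hom u) := by
  have key : u = (pullback.fst T.hom π).appTop.hom ((pt D₀ (HX π T) 0).appTop.hom u) := by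
    refine fun_ext D₀ (HX π T) _ _ fun l => ?_
    rw [appTop_pt_p, Fin.fin_one_eq_zero l]
  have h2 : σ.appTop.hom u = (pt D₀ (HX π T) 0).appTop.hom u := by
    conv_lhs => rw [key]
    rw [← CommRingCat.comp_apply, ← Scheme.Hom.comp_appTop, hσ]
    simp
  rw [h2]
  exact key

include D₀ in
/-- The value on `X_T` along the sections. -/
theorem eq_X {T : Over S} [IsAffine T.left] [QuasiCompact π] [QuasiSeparated π] [Flat T.hom]
    (u : Γ(pullback T.hom π, ⊤)) (σ σ' : T.left ⟶ pullback T.hom π) (hσ : σ ≫ pullback.fst T.hom π = 𝟙 _)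
    (hσ' : σ' ≫ pullback.fst T.hom π = 𝟙 _) : σ.appTop.hom u = σ'.appTop.hom u := by
  conv_lhs => rw [const_X D₀ u σ' hσ']
  rw [← CommRingCat.comp_apply, ← Scheme.Hom.comp_appTop, hσ]
  simp

/-- The value of the restriction of a unit of `X_T`. -/
theorem evY_res {T : Over S} (l : ι) (u : Γs (EtDl.GmF X) (PO π T)) :
    evY D l (m (EtDl.resGmF i) _ u) = (ptY D T l ≫ pullback.fst (PO π T).hom i).appTop.hom (gm u : O (PO π T)) := by
  rw [evY, yv_res, Scheme.Hom.comp_appTop, CommRingCat.comp_apply]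
  rfl

theorem section_fst {T : Over S} (l : ι) : (ptY D T l ≫ pullback.fst (PO π T).hom i) ≫ pullback.fst T.hom π = 𝟙 _ := by
  rw [Category.assoc]
  exact pt_p D (HY π i T) l

/-- Equality of global functions can be checked on affine opens. -/
theorem fun_ext_affine {T : Over S} (a a' : Γ(T.left, ⊤))
    (h : ∀ (V : T.left.Opens), IsAffineOpen V → (opnι T V).left.appTop.hom a = (opnι T V).left.appTop.hom a') : a = a' := by
  have h1 : ∀ x : T.left, ∃ V : T.left.Opens, IsAffineOpen V ∧ x ∈ V := fun x => by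
    obtain ⟨V, hV, hx, -⟩ := exists_isAffineOpen_mem_and_subset (x := x) (U := (⊤ : T.left.Opens)) trivial
    exact ⟨V, hV, hx⟩
  choose V hV hx using h1
  exact sepO (isCov_opn V fun x => ⟨x, hx x⟩) a a' fun x => h (V x) (hV x)

include D₀ in
theorem evY_res_eq [QuasiCompact π] [QuasiSeparated π] (hfl : ∀ T : Over S, Flat T.hom) {T : Over S} (l l' : ι)
    (u : Γs (EtDl.GmF X) (PO π T)) :
    evY D l (m (EtDl.resGmF i) _ u) = evY D l' (m (EtDl.resGmF i) _ u) := by
  apply fun_ext_affine
  intro V hV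
  rw [← evY_r, ← evY_r, ← m_r, evY_res, evY_res]
  have h1 : IsAffine (opn T V).left := hV
  have h2 := hfl (opn T V)
  exact eq_X D₀ _ _ _ (section_fst D l) (section_fst D l')

include D D₀ in
/-- `π_* G_m(m) = 0` if `Y` has a point. -/
theorem h0 [Nonempty ι] [QuasiCompact π] [QuasiSeparated π] (hfl : ∀ T : Over S, Flat T.hom) (T : Over S)
    (s : Γs (F i) (PO π T)) : s = 0 := by
  have h1 : ∀ x : T.left, ∃ V : T.left.Opens, IsAffineOpen V ∧ x ∈ V := fun x => by
    obtain ⟨V, hV, hx, -⟩ := exists_isAffineOpen_mem_and_subset (x := x) (U := (⊤ : T.left.Opens)) trivial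
    exact ⟨V, hV, hx⟩
  choose V hV hx using h1
  refine eq_of_openCover ((EtFppf.pushBig π).obj (F i)) V (fun x => ⟨x, hx x⟩) s 0 fun x => ?_
  rw [map_zero]
  change r (F i) (POm π (opnι T (V x))) s = 0
  have hAff : IsAffine (opn T (V x)).left := hV x
  generalize hs' : r (F i) (POm π (opnι T (V x))) s = s'
  clear hs'
  have h2 := hfl (opn T (V x))
  apply un_injective
  rw [un_zero]
  let l : ι := Classical.arbitrary ι
  let T' := opn T (V x)
  have h3 := const_X D₀ (un i s' : O (PO π T')) (ptY D T' l ≫ pullback.fst (PO π T').hom i) (section_fst D l)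
  have h4 : (ptY D T' l ≫ pullback.fst (PO π T').hom i).appTop.hom (un i s' : O (PO π T')) = 1 := by
    have h5 := tr_un s'
    rw [Scheme.Hom.comp_appTop, CommRingCat.comp_apply]
    exact (congrArg _ h5).trans (map_one _)
  rw [h4, map_one] at h3
  exact h3

/-- The pull back of a unit of `T`. -/
theorem exists_unit {T : Over S} (a : Γ(T.left, ⊤)) (ha : IsUnit a) :
    ∃ u : Γs (EtDl.GmF X) (PO π T), ∀ l, evY D l (m (EtDl.resGmF i) _ u) = a := by
  obtain ⟨u, hu⟩ := gm_surjective (X := X) (U := PO π T) ((ha.map (pullback.fst T.hom π).appTop.hom).unit)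
  refine ⟨u, fun l => ?_⟩
  rw [evY_res, hu]
  change (ptY D T l ≫ pullback.fst (PO π T).hom i).appTop.hom ((pullback.fst T.hom π).appTop.hom a) = a
  rw [← CommRingCat.comp_apply, ← Scheme.Hom.comp_appTop, section_fst]
  simp

end X

end K412.EvY
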