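import Groth.Agent.Sga3B.GaPts
import Groth.Prelude.Def_GmPts
import Mathlib.AlgebraicGeometry.AffineSpace

/-!
# `𝔾_a` and `𝔾_m` as open subschemes of the affine line
-/

set_option autoImplicit false
universe u
open CategoryTheory MonoidalCategory CartesianMonoidalCategory MonObj GrpObj AlgebraicGeometry Limits Opposite

noncomputable section

namespace K412.GaGm

open Groth.Agent.Sga3B.GaPts

variable (S : Scheme.{u})

/-- The affine line. -/
abbrev A1 : Over S := Over.mk (𝔸(PUnit.{u + 1}; S) ↘ S)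

/-- The coordinate. -/
abbrev x1 : Γ((A1 S).left, ⊤) := AffineSpace.coord S (⟨⟩ : PUnit.{u + 1})

variable {S}

/-- Points of the affine line. -/
def aPt {T : Over S} (a : Γ(T.left, ⊤)) : T ⟶ A1 S :=
  Over.homMk (AffineSpace.homOfVector T.hom fun _ => a) (AffineSpace.homOfVector_over _ _)

theorem aPt_coord {T : Over S} (a : Γ(T.left, ⊤)) : (aPt a).left.appTop.hom (x1 S) = a :=
  AffineSpace.homOfVector_appTop_coord _ _ _

theorem a_ext {T : Over S} {f g : T ⟶ A1 S} (h : f.left.appTop.hom (x1 S) = g.left.appTop.hom (x1 S)) : f = g := by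
  ext1
  refine AffineSpace.hom_ext ?_ fun _ => h
  exact (Over.w f).trans (Over.w g).symm

theorem gaFn_comp' {T T' : Over S} (h : T' ⟶ T) (x : T ⟶ Red.Ga S) :
    Red.gaFn (h ≫ x) = h.left.appTop.hom (Red.gaFn x) := gaFn_comp h x

theorem gmFn_comp {T T' : Over S} (h : T' ⟶ T) (x : T ⟶ Red.Gm S) :
    Red.gmFn (h ≫ x) = h.left.appTop.hom (Red.gmFn x) := by
  rw [← GmPts.val_unitOfPt, GmPts.unitOfPt_comp]
  rfl

theorem gmFn_injective {T : Over S} {x y : T ⟶ Red.Gm S} (h : Red.gmFn x = Red.gmFn y) : x = y := by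
  have h1 : GmPts.unitOfPt x = GmPts.unitOfPt y := Units.ext h
  rw [← GmPts.ptOfUnit_unitOfPt x, h1, GmPts.ptOfUnit_unitOfPt]

/-- The additive group is the affine line. -/
def gaIso (S : Scheme.{u}) : Red.Ga S ≅ A1 S where
  hom := aPt (Red.gaFn (𝟙 (Red.Ga S)))
  inv := gaPt (A1 S) (x1 S)
  hom_inv_id := by
    apply gaFn_injective
    rw [gaFn_comp', gaFn_gaPt]
    exact aPt_coord _
  inv_hom_id := by
    apply a_ext
    have h1 : (gaPt (A1 S) (x1 S)).left.appTop.hom (Red.gaFn (𝟙 (Red.Ga S))) = x1 S := by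
      rw [← gaFn_comp', Category.comp_id, gaFn_gaPt]
    rw [Over.comp_left, Scheme.Hom.comp_appTop]
    change (gaPt (A1 S) (x1 S)).left.appTop.hom ((aPt (Red.gaFn (𝟙 (Red.Ga S)))).left.appTop.hom (x1 S)) = _
    rw [aPt_coord, h1]
    simp

/-- `𝔾_a` as an open subscheme of the affine line. -/
abbrev gaMap (S : Scheme.{u}) : (Red.Ga S).left ⟶ 𝔸(PUnit.{u + 1}; S) := (gaIso S).hom.left

instance : IsOpenImmersion (gaMap S) := by
  have : IsIso (gaIso S).hom.left := inferInstanceAs (IsIso ((Over.forget S).map (gaIso S).hom))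
  infer_instance

theorem gaMap_over : gaMap S ≫ (𝔸(PUnit.{u + 1}; S) ↘ S) = (Red.Ga S).hom := Over.w (gaIso S).hom

/-- The locus where the coordinate is invertible. -/
abbrev U1 (S : Scheme.{u}) : (A1 S).left.Opens := (A1 S).left.basicOpen (x1 S)

/-- The same over `S`. -/
abbrev U1o (S : Scheme.{u}) : Over S := Over.mk ((U1 S).ι ≫ (A1 S).hom)

/-- The inclusion. -/
def u1 (S : Scheme.{u}) : U1o S ⟶ A1 S := Over.homMk (U1 S).ι rfl

theorem mono_u1 : Mono (u1 S) := by
  have : Mono (u1 S).left := inferInstanceAs (Mono (U1 S).ι)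
  exact Over.mono_of_mono_left _

theorem isUnit_u1 : IsUnit ((u1 S).left.appTop.hom (x1 S)) := by
  apply RingedSpace.isUnit_of_isUnit_germ (U1o S).left.toRingedSpace ⊤
  intro z hz
  have h1 : (u1 S).left ⁻¹ᵁ (U1 S) = (U1o S).left.basicOpen ((u1 S).left.appTop.hom (x1 S)) :=
    Scheme.preimage_basicOpen_top _ _
  refine ((U1o S).left.mem_basicOpen _ z hz).1 ?_
  rw [← h1]
  exact z.2

/-- A point of the affine line with invertible coordinate factors. -/
theorem exists_u1 {T : Over S} (f : T ⟶ A1 S) (h : IsUnit (f.left.appTop.hom (x1 S))) : ∃ g : T ⟶ U1o S, g ≫ u1 S = f := by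
  have h2 : Set.range f.left ⊆ Set.range (U1 S).ι := by
    rw [Scheme.Opens.range_ι]
    rintro _ ⟨w, rfl⟩
    have h3 : f.left ⁻¹ᵁ (U1 S) = T.left.basicOpen (f.left.appTop.hom (x1 S)) := Scheme.preimage_basicOpen_top _ _
    change w ∈ f.left ⁻¹ᵁ (U1 S)
    rw [h3, Scheme.basicOpen_of_isUnit _ h]
    trivial
  refine ⟨Over.homMk (IsOpenImmersion.lift (U1 S).ι f.left h2) ?_, ?_⟩
  · change IsOpenImmersion.lift _ _ _ ≫ (U1 S).ι ≫ (A1 S).hom = T.hom
    rw [IsOpenImmersion.lift_fac_assoc, Over.w f]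
  · ext1
    exact IsOpenImmersion.lift_fac _ _ _

/-- The multiplicative group is the complement of zero in the affine line. -/
theorem exists_gmIso (S : Scheme.{u}) : ∃ e : Red.Gm S ≅ U1o S, e.hom ≫ u1 S = aPt (Red.gmFn (𝟙 (Red.Gm S))) := by
  obtain ⟨g, hg⟩ := exists_u1 (aPt (Red.gmFn (𝟙 (Red.Gm S)))) (by
    rw [aPt_coord, ← GmPts.val_unitOfPt]
    exact Units.isUnit _)
  let h : U1o S ⟶ Red.Gm S := GmPts.ptOfUnit (isUnit_u1 (S := S)).unit
  have hh : Red.gmFn h = (u1 S).left.appTop.hom (x1 S) := by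
    rw [← GmPts.val_unitOfPt, GmPts.unitOfPt_ptOfUnit]
    rfl
  refine ⟨⟨g, h, ?_, ?_⟩, hg⟩
  · apply gmFn_injective
    rw [gmFn_comp, hh]
    have h1 := congrArg (fun φ : Red.Gm S ⟶ A1 S => φ.left.appTop.hom (x1 S)) hg
    simp only [Over.comp_left, Scheme.Hom.comp_appTop] at h1
    exact h1.trans (aPt_coord _)
  · have := mono_u1 (S := S)
    rw [← cancel_mono (u1 S), Category.assoc, hg, Category.id_comp]
    apply a_ext
    rw [Over.comp_left, Scheme.Hom.comp_appTop]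
    change h.left.appTop.hom ((aPt (Red.gmFn (𝟙 (Red.Gm S)))).left.appTop.hom (x1 S)) = _
    rw [aPt_coord, ← gmFn_comp, Category.comp_id, hh]

/-- `𝔾_m` as an open subscheme of the affine line. -/
theorem exists_gmMap (S : Scheme.{u}) : ∃ j : (Red.Gm S).left ⟶ 𝔸(PUnit.{u + 1}; S), IsOpenImmersion j ∧
    j ≫ (𝔸(PUnit.{u + 1}; S) ↘ S) = (Red.Gm S).hom := by
  obtain ⟨e, he⟩ := exists_gmIso S
  have : IsIso e.hom.left := inferInstanceAs (IsIso ((Over.forget S).map e.hom))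
  have : IsOpenImmersion (u1 S).left := inferInstanceAs (IsOpenImmersion (U1 S).ι)
  refine ⟨(e.hom ≫ u1 S).left, ?_, Over.w (e.hom ≫ u1 S)⟩
  rw [Over.comp_left]
  infer_instance

end K412.GaGm
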