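import Groth.Agent.PicF.K412.HomInv
import Groth.Agent.PicF.K662.OpenAff

/-!
# Homotopy invariance: classes over an open of an affine space which are trivial at a point
-/

set_option autoImplicit false
universe u
open CategoryTheory CategoryTheory.Limits AlgebraicGeometry Opposite

noncomputable section

namespace K412.HomInv

open Groth.Agent.Etdl.H432.Sec Groth.Agent.Etdl.H432.Un Groth.Agent.Etdl.H432.IQ Groth.Agent.Etdl.H494.Gamma
  Groth.Agent.Etdl.H494 Groth.Agent.Etdl.H432.LS K412.Delta Groth.Agent.Grpsch.PicGrp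

variable {S P Y : Scheme.{u}} {i : Y ⟶ P}

/-- A class over an open `T` of an affine space which is trivial at a section comes from a unit on `Y_T`. -/
theorem exists_delta [IsClosedImmersion i] (pbar : P ⟶ S)
    (h0 : ∀ (T : Over S) (s : Γs (F i) (PO pbar T)), s = 0)
    [IsLocallyNoetherian P] (hP : Pi1.IsNormalScheme P) {T : Over S} {n : Type u} [Finite n]
    (j : T.left ⟶ 𝔸(n; S)) [IsOpenImmersion j] (hj : j ≫ (𝔸(n; S) ↘ S) = T.hom)
    (t : Over.mk (𝟙 S) ⟶ T) (ξ : Γs (Jc pbar i) T) (hξ : r (Jc pbar i) t ξ = 0) :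
    ∃ w : Γs (GY i) (PO pbar T), delta i pbar w = ξ := by
  obtain ⟨q, hq⟩ := PushInj.exists_global pbar i h0 ξ
  obtain ⟨D⟩ := exists_LBdat q
  obtain ⟨b₀, hb₀⟩ := PushInj.exists_of_cl_eq_zero_global pbar i h0 (r (Q i) (POm pbar t) q) (by
    rw [cl_r, hq, hξ])
  have h1 := D.trivial_of_lift (POm pbar t) b₀ hb₀
  rw [← mk_eq_one_iff (Groth.Agent.Fdesc.LocGen.isInvertible_pullback _ D.isInvertible), ← pull_mk _ D.isInvertible] at h1
  have ht : t.left ≫ T.hom = 𝟙 S := Over.w t
  have sq : IsPullback (pullback.fst T.hom pbar) (pullback.snd T.hom pbar) (j ≫ (𝔸(n; S) ↘ S)) pbar := by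
    rw [hj]
    exact IsPullback.of_hasPullback _ _
  let σ : P ⟶ pullback T.hom pbar := pullback.lift (pbar ≫ t.left) (𝟙 P) (by
    rw [Category.assoc, ht, Category.comp_id, Category.id_comp])
  have hσ : σ ≫ pullback.snd T.hom pbar = 𝟙 P := pullback.lift_snd _ _ _
  let σ' : P ⟶ pullback (𝟙 S) pbar := pullback.lift pbar (𝟙 P) (by rw [Category.comp_id, Category.id_comp])
  have hσ' : σ = σ' ≫ (POm pbar t).left := by
    apply pullback.hom_ext
    · rw [Category.assoc, PTmap_fst, pullback.lift_fst]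
      exact (congrArg (· ≫ t.left) (pullback.lift_fst pbar (𝟙 P) _)).symm
    · rw [Category.assoc, PTmap_snd, pullback.lift_snd]
      exact (pullback.lift_snd pbar (𝟙 P) _).symm
  obtain ⟨d, hd⟩ := K662.OpenAff.exists_pull sq (K662.OpenAff.surjective_of_section hσ) hP (mk D.L D.isInvertible)
  have h2 : pull σ (mk D.L D.isInvertible) = 1 := by
    rw [hσ', pull_comp]
    exact (congrArg (pull σ') h1).trans (map_one _)
  have h3 : d = 1 := by
    rw [← hd, ← pull_comp, hσ, pull_id] at h2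
    exact h2
  rw [h3, map_one] at hd
  obtain ⟨φ⟩ := (mk_eq_one_iff D.isInvertible).1 hd.symm
  obtain ⟨w, b', hb'⟩ := D.exists_of_trivial φ
  refine ⟨w, ?_⟩
  have h4 := congrArg (cl pbar) hb'
  rw [cl_β, map_sub, hq] at h4
  exact (sub_eq_zero.1 h4.symm).symm

end K412.HomInv
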