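import Groth.Agent.PicF.K412.Coord
import Groth.Agent.AlgGrp.K414.QCompl
import Groth.Agent.Sga7.H740.GaGrp
import Groth.Agent.Sga3.H219.NeutralK
import Groth.Agent.S0353
import Groth.Agent.S4141
import Groth.Agent.S3025
import Groth.Agent.Sga3.H830.CommAux

/-!
# Commutative groups into which every `𝔾_a` maps trivially and every `𝔾_m` maps into a given split torus

* `neutral_semiabelian`: let `k` be algebraically closed of characteristic `0` and `P` a commutative
  `k`-group scheme locally of finite type, `j : T ⟶ P` a closed split subtorus. If every homomorphism from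
  `𝔾_a` to `P` is trivial and every homomorphism from `𝔾_m` to `P` factors through `j`, then the neutral
  component of `P` is an extension of an abelian variety by `T`.
-/

set_option autoImplicit false
universe u
open CategoryTheory MonoidalCategory CartesianMonoidalCategory MonObj GrpObj AlgebraicGeometry Limits
open Groth.Agent

namespace K412.Semi

variable {k : Type u} [Field k]

theorem isAffine_of_isAffineHom' {C : Over (Spec (CommRingCat.of k))} [IsAffineHom C.hom] : IsAffine C.left :=
  isAffine_of_isAffineHom C.hom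

/-- The neutral component of a smooth group scheme over a field. -/
theorem exists_neutral (G : Over (Spec (CommRingCat.of k))) [GrpObj G] [Smooth G.hom] :
    ∃ (U : Over (Spec (CommRingCat.of k))) (_ : GrpObj U) (u : U ⟶ G), IsMonHom u ∧
      IsClosedImmersion u.left ∧ IsOpenImmersion u.left ∧ Smooth U.hom ∧ QuasiCompact U.hom ∧
      ConnectedSpace U.left ∧
      (∀ pt, Set.range u.left = connectedComponent (η[G].left pt)) := by
  obtain ⟨U, _, u, hu, hcl, hfl, hr⟩ := S3023.result k G
  have hlft : LocallyOfFiniteType G.hom := inferInstance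
  have hN : IsLocallyNoetherian G.left := LocallyOfFiniteType.isLocallyNoetherian G.hom
  have hlfp : LocallyOfFinitePresentation u.left := Sga3.H219.NeutralK.lfp_of_noetherian u.left
  have hop : IsOpenImmersion u.left := IsOpenImmersion.of_flat_of_mono u.left
  have hsm : Smooth U.hom := by
    rw [← Over.w u]
    infer_instance
  have hr0 := hr (IsLocalRing.closedPoint k)
  have hconn : ConnectedSpace U.left := by
    have h1 : _root_.IsConnected (Set.range u.left) := by rw [hr0]; exact isConnected_connectedComponent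
    rw [← Set.image_univ] at h1
    have h2 : _root_.IsPreconnected (Set.univ : Set U.left) :=
      (u.left.isOpenEmbedding.isInducing.isPreconnected_image).1 h1.2
    have h3 : Nonempty U.left := ⟨(η[U] : 𝟙_ (Over (Spec (CommRingCat.of k))) ⟶ U).left (IsLocalRing.closedPoint k)⟩
    exact { toPreconnectedSpace := ⟨h2⟩, toNonempty := h3 }
  have hqc : QuasiCompact U.hom := by
    have hlfpU : LocallyOfFinitePresentation U.hom := inferInstance
    refine (S3025.result (Spec (CommRingCat.of k)) U fun s => ?_).2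
    have h1 : U.hom.base ⁻¹' {s} = Set.univ := by
      ext x
      simp only [Set.mem_preimage, Set.mem_singleton_iff, Set.mem_univ, iff_true]
      exact Subsingleton.elim (α := Spec (CommRingCat.of k)) _ _
    rw [h1]
    exact isConnected_univ
  exact ⟨U, inferInstance, u, hu, hcl, hop, hsm, hqc, hconn, hr⟩

/-- A homomorphism from a connected group factors through the neutral component. -/
theorem exists_factor_neutral {G U T : Over (Spec (CommRingCat.of k))} [GrpObj G] [GrpObj U] [GrpObj T]
    (u : U ⟶ G) [IsOpenImmersion u.left]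
    (hr : ∀ pt, Set.range u.left = connectedComponent ((η[G] : 𝟙_ (Over (Spec (CommRingCat.of k))) ⟶ G).left pt))
    [ConnectedSpace T.left] (t : T ⟶ G) [IsMonHom t] : ∃ t' : T ⟶ U, t' ≫ u = t := by
  have h1 : Set.range t.left ⊆ Set.range u.left := by
    rw [hr (IsLocalRing.closedPoint k)]
    refine IsPreconnected.subset_connectedComponent ?_ ?_
    · exact isPreconnected_range t.left.continuous
    · refine ⟨(η[T] : 𝟙_ (Over (Spec (CommRingCat.of k))) ⟶ T).left (IsLocalRing.closedPoint k), ?_⟩
      rw [← Scheme.Hom.comp_apply, ← Over.comp_left, IsMonHom.one_hom]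
  refine ⟨Over.homMk (IsOpenImmersion.lift u.left t.left h1) ?_, ?_⟩
  · rw [← Over.w u, IsOpenImmersion.lift_fac_assoc, Over.w t]
  · ext1
    exact IsOpenImmersion.lift_fac _ _ _

/-- The additive group is not trivial. -/
theorem false_of_ga {G : Over (Spec (CommRingCat.of k))} [GrpObj G]
    (j : Red.Ga (Spec (CommRingCat.of k)) ⟶ G) [IsMonHom j] [Mono j] (hj : j = 1) : False := by
  have h3 : 𝟙 (Red.Ga (Spec (CommRingCat.of k))) = 1 := by
    rw [← cancel_mono j, Category.id_comp, MonObj.one_comp, hj]
  let T : Over (Spec (CommRingCat.of k)) := 𝟙_ _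
  have h4 : Sga3B.GaPts.gaPt T (1 : Γ(T.left, ⊤)) = 1 := by
    rw [← Category.comp_id (Sga3B.GaPts.gaPt T (1 : Γ(T.left, ⊤))), h3, MonObj.comp_one]
  have h5 := congrArg Red.gaFn h4
  rw [Sga3B.GaPts.gaFn_gaPt, Sga3B.GaPts.gaFn_one] at h5
  have h6 : Nontrivial Γ(T.left, ⊤) := by
    have : Nonempty (Spec (CommRingCat.of k)) := inferInstance
    exact inferInstanceAs (Nontrivial Γ(Spec (CommRingCat.of k), ⊤))
  exact one_ne_zero h5

variable [IsAlgClosed k]

/-- A smooth connected commutative unipotent group into which every homomorphism of `𝔾_a` is trivial is trivial. -/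
theorem id_eq_one_of_unip {U P : Over (Spec (CommRingCat.of k))} [GrpObj U] [GrpObj P] [IsCommMonObj U]
    [Smooth U.hom] [ConnectedSpace U.left] (hU : K414.Unip.IsUnip U) (u : U ⟶ P) [IsMonHom u] [Mono u]
    (ha : ∀ f : Red.Ga (Spec (CommRingCat.of k)) ⟶ P, IsMonHom f → f = 1) : 𝟙 U = 1 := by
  obtain ⟨B, _, _, e, he, hB⟩ := hU
  have h0 : IsIso e.hom.left := inferInstanceAs (IsIso ((Over.forget _).map e.hom))
  have h1 : IsAffine (Books.AffBridge.SpecOver k B).left := inferInstanceAs (IsAffine (Spec (CommRingCat.of B)))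
  have h2 : IsAffine U.left := isAffine_of_isAffineHom e.hom.left
  have hft : Algebra.FiniteType k B := K414.Unip.finiteType_of_iso e
  by_cases hfin : IsFinite U.hom
  · exact Sga3.H821.AffProper.hom_eq_one k U U (𝟙 U)
  · obtain ⟨j, hj, hjc⟩ := Sga7.H740.GaGrp.exists_ga_of_isUnipotent_of_not_isFinite U e hfin hB
    have hjm : Mono j := K414.Kit.mono_of_closed j
    exact (false_of_ga (j ≫ u) (ha (j ≫ u) inferInstance)).elim

/-- `k` algebraically closed of characteristic `0`, `P` commutative and locally of finite type, `j : T ⟶ P` a split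
subtorus such that every homomorphism `𝔾_a ⟶ P` is trivial and every homomorphism `𝔾_m ⟶ P` factors through `j`. Then
the neutral component of `P` is an extension of an abelian variety by `T`. -/
theorem neutral_semiabelian [CharZero k] (P : Over (Spec (CommRingCat.of k))) [GrpObj P] [IsCommMonObj P]
    [LocallyOfFiniteType P.hom] (n : ℕ) (T : Over (Spec (CommRingCat.of k))) [GrpObj T] (j : T ⟶ P) [IsMonHom j]
    [Mono j] (hT : Red.IsSplitTorusWith (Fin n → ℤ) T)
    (ha : ∀ f : Red.Ga (Spec (CommRingCat.of k)) ⟶ P, IsMonHom f → f = 1)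
    (hm : ∀ f : Red.Gm (Spec (CommRingCat.of k)) ⟶ P, IsMonHom f →
      ∃ g : Red.Gm (Spec (CommRingCat.of k)) ⟶ T, g ≫ j = f) :
    ∃ (P0 : Over (Spec (CommRingCat.of k))) (_ : GrpObj P0) (e : P0 ⟶ P) (_ : IsMonHom e)
      (T : Over (Spec (CommRingCat.of k))) (_ : GrpObj T) (j : T ⟶ P0) (_ : IsMonHom j)
      (A : Over (Spec (CommRingCat.of k))) (_ : GrpObj A) (q : P0 ⟶ A) (_ : IsMonHom q),
      IsOpenImmersion e.left ∧ ConnectedSpace ↥P0.left ∧ IsClosedImmersion j.left ∧
      Red.IsSplitTorusWith (Fin n → ℤ) T ∧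
      IsProper A.hom ∧ Smooth A.hom ∧ ConnectedSpace ↥A.left ∧
      Surjective q.left ∧ Flat q.left ∧ AlgGrp.IsKernel j q := by
  have hPs : Smooth P.hom := S0353.result k P
  obtain ⟨P0, _, e, he, hecl, heop, hP0s, hP0q, hP0c, hr⟩ := exists_neutral P
  have hem : Mono e := K414.Kit.mono_of_closed e
  have hP0comm : IsCommMonObj P0 := Sga3.H830.CommAux.isCommMonObj_of_mono e
  obtain ⟨L, _, l, A, _, q, hl, hlc, hLa, hLs, hLc, hLn, hq, hqs, hqf, hqk, hAp, hAs, hAc, -⟩ :=
    S4141.result k P0
  have hlm : Mono l := K414.Kit.mono_of_closed l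
  have hLcomm : IsCommMonObj L := Sga3.H830.CommAux.isCommMonObj_of_mono l
  obtain ⟨M, _, t, U, _, u, a, b, ht, htc, hM, hMs, hMc, hu, huc, hU, hUs, hUc, ha', hb', hta, hub, htb, hua, hsum⟩ :=
    K414.QCompl.exists_decomp L
  have humm : Mono u := K414.Kit.mono_of_closed u
  have hUcomm : IsCommMonObj U := Sga3.H830.CommAux.isCommMonObj_of_mono u
  have htm : Mono t := K414.Kit.mono_of_closed t
  have h1 : 𝟙 U = 1 := id_eq_one_of_unip hU (u ≫ l ≫ e) ha
  -- `t : M ⟶ L` is an isomorphism with inverse `a`
  have hat : a ≫ t = 𝟙 L := by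
    rw [← hsum]
    have h2 : b ≫ u = 1 := by rw [← Category.comp_id b, h1, MonObj.comp_one, MonObj.one_comp]
    rw [h2, _root_.mul_one]
  -- split torus
  have hMt : Red.IsTorus M := by
    have hMcomm : IsCommMonObj M := Sga3.H830.CommAux.isCommMonObj_of_mono t
    exact K414.TorConn.isTorus hM
  obtain ⟨r, hMr⟩ := Sga3B.TorusAlgClosed.exists_isSplitTorusWith hMt
  obtain ⟨g, hg⟩ := Coord.exists_factor_of_split hMr j (t ≫ l ≫ e) hm
  -- `T` in `P0`
  have hTt : Red.IsTorus T := Sga3B.BorSpan613.isTorus_of_isSplitTorusWith hT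
  have hTc : ConnectedSpace T.left := Sga3.H784.Neutral.connectedSpace_of_isTorus hTt
  have hTs : Smooth T.hom := Sga3B.TorusAlgClosed.smooth_of_isTorus hTt
  have hTa : IsAffineHom T.hom := Sga3B.TorusAlgClosed.isAffineHom_of_isTorus hTt
  have hTa' : IsAffine T.left := isAffine_of_isAffineHom T.hom
  obtain ⟨j', hj'⟩ := exists_factor_neutral e hr j
  have hj'm : IsMonHom j' := K414.QCompl.isMonHom_comp_of_mono (p := e) (by rw [hj']; infer_instance)
  have hj'mo : Mono j' := by
    have : Mono (j' ≫ e) := by rw [hj']; infer_instance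
    exact mono_of_mono j' e
  have h3 : j' ≫ q = 1 := Sga3.H821.AffProper.hom_eq_one k T A (j' ≫ q)
  obtain ⟨s, hs⟩ := K395.Pts.exists_of_comp_eq_one hqk j' h3
  have hgj : g ≫ j' = t ≫ l := by rw [← cancel_mono e, Category.assoc, hj', hg, Category.assoc]
  -- `s : T ⟶ L` is an isomorphism with inverse `a ≫ g`
  have h5 : (a ≫ g) ≫ s = 𝟙 L := by
    rw [← cancel_mono l, Category.assoc, Category.assoc, hs, hgj, ← Category.assoc, hat]
  have h6 : s ≫ a ≫ g = 𝟙 T := by
    rw [← cancel_mono j', Category.assoc, Category.assoc, hgj, ← Category.assoc a, hat, Category.id_comp, hs,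
      Category.id_comp]
  let i : T ≅ L := ⟨s, a ≫ g, h6, h5⟩
  have hk : AlgGrp.IsKernel j' q := by
    refine IsPullback.of_iso hqk i.symm (Iso.refl _) (Iso.refl _) (Iso.refl _) ?_ ?_ ?_ ?_
    · simp only [Iso.refl_hom, Category.comp_id, i, Iso.symm_hom]
      rw [Category.assoc, hgj, ← Category.assoc, hat, Category.id_comp]
    all_goals simp
  have hj'c : IsClosedImmersion j'.left := by
    have h7 : IsIso s := ⟨a ≫ g, h6, h5⟩
    have h8 : IsIso s.left := inferInstanceAs (IsIso ((Over.forget _).map s))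
    rw [← hs, Over.comp_left]
    infer_instance
  exact ⟨P0, inferInstance, e, he, T, inferInstance, j', hj'm, A, inferInstance, q, hq, heop, hP0c, hj'c, hT, hAp, hAs,
    hAc, hqs, hqf, hk⟩

end K412.Semi
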