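import Groth.Agent.PicF.K412.JMap
import Groth.Agent.PicF.K412.GaGm
import Groth.Agent.PicF.K412.HomInv2
import Groth.Agent.PicF.K412.Semi
import Groth.Agent.VarietyA.RegSmoothSch
import Groth.Agent.CurvesC.RegNormal
import Groth.Agent.S0558

/-!
# Homomorphisms from `𝔾_a` and `𝔾_m` to the group representing `R^1 π_* G_m(m)`
-/

set_option autoImplicit false
universe u
open CategoryTheory MonoidalCategory CartesianMonoidalCategory MonObj GrpObj AlgebraicGeometry Limits Opposite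

noncomputable section

namespace K412.Fact

open Groth.Agent.Etdl.H432.Sec Groth.Agent.Etdl.H432.Un Groth.Agent.Etdl.H494.Gamma
  Groth.Agent.Etdl.H494 K412.Delta K412.Ev K412.EvY K412.JMap K412.GaGm

theorem isNormalScheme {k : Type u} [Field k] {X : Scheme.{u}}
    (q : X ⟶ Spec (CommRingCat.of k)) [Smooth q] : Pi1.IsNormalScheme X := fun x =>
  have : IsRegularLocalRing (X.presheaf.stalk x) :=
    Groth.Agent.VarietyA.RegSmoothSch.isRegularLocalRing_stalk_of_mem_smoothLocus q x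
      (by rw [q.smoothLocus_eq_top]; trivial)
  ⟨Groth.Agent.S0558.result _, Groth.Agent.CurvesC.RegNormal.isIntegrallyClosed _⟩

/-- Units on an affine space over a field are constant. -/
theorem exists_const {k : Type u} [Field k] (n : Type u) (a : Γ(𝔸(n; Spec (CommRingCat.of k)), ⊤)) (ha : IsUnit a) :
    ∃ c : Γ(Spec (CommRingCat.of k), ⊤), a = (𝔸(n; Spec (CommRingCat.of k)) ↘ Spec (CommRingCat.of k)).appTop.hom c := by
  let e := AffineSpace.SpecIso n (CommRingCat.of k)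
  let b : MvPolynomial n k := (Scheme.ΓSpecIso (.of (MvPolynomial n k))).hom.hom (e.inv.appTop.hom a)
  have hb : IsUnit b := (ha.map e.inv.appTop.hom).map (Scheme.ΓSpecIso (.of (MvPolynomial n k))).hom.hom
  obtain ⟨c, -, hc⟩ := MvPolynomial.isUnit_iff_eq_C_of_isReduced.1 hb
  refine ⟨(Scheme.ΓSpecIso (.of k)).inv.hom c, ?_⟩
  have h0 : IsIso e.inv := inferInstance
  have h1' : IsIso (Scheme.Hom.appTop e.inv) := inferInstanceAs (IsIso (Scheme.Hom.app e.inv ⊤))
  have h1 : Function.Injective e.inv.appTop.hom := (ConcreteCategory.bijective_of_isIso e.inv.appTop).1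
  apply h1
  have h2 : e.inv.appTop.hom ((𝔸(n; Spec (CommRingCat.of k)) ↘ Spec (CommRingCat.of k)).appTop.hom
      ((Scheme.ΓSpecIso (.of k)).inv.hom c)) = (Spec.map (CommRingCat.ofHom (MvPolynomial.C (σ := n) (R := k)))).appTop.hom
        ((Scheme.ΓSpecIso (.of k)).inv.hom c) := by
    have h3 := congrArg (fun φ => (Scheme.Hom.appTop φ).hom ((Scheme.ΓSpecIso (.of k)).inv.hom c))
      (AffineSpace.SpecIso_inv_over (n := n) (CommRingCat.of k))
    simp only [Scheme.Hom.comp_appTop] at h3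
    exact h3
  rw [h2]
  have h4 : (Spec.map (CommRingCat.ofHom (MvPolynomial.C (σ := n) (R := k)))).appTop.hom
        ((Scheme.ΓSpecIso (.of k)).inv.hom c) = (Scheme.ΓSpecIso (.of (MvPolynomial n k))).inv.hom (MvPolynomial.C c) :=
    (congr($(Scheme.ΓSpecIso_inv_naturality (CommRingCat.ofHom (MvPolynomial.C (σ := n) (R := k)))).hom c)).symm
  rw [h4, ← hc]
  change _ = (Scheme.ΓSpecIso (.of (MvPolynomial n k))).inv.hom ((Scheme.ΓSpecIso (.of (MvPolynomial n k))).hom.hom _)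
  rw [← CommRingCat.comp_apply, Iso.hom_inv_id]
  rfl

variable {k : Type u} [Field k]

/-- A morphism from `𝔾_a` to a split torus which is trivial at the origin is trivial. -/
theorem eq_one_of_ga {n : ℕ} (x : Red.Ga (Spec (CommRingCat.of k)) ⟶ DT (Spec (CommRingCat.of k)) n)
    (hx : (η[Red.Ga (Spec (CommRingCat.of k))] : 𝟙_ (Over (Spec (CommRingCat.of k))) ⟶ _) ≫ x = 1) : x = 1 := by
  let S := Spec (CommRingCat.of k)
  let g : A1 S ⟶ DT S n := (gaIso S).inv ≫ x
  apply co_ext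
  intro l
  obtain ⟨c, hc⟩ := exists_const PUnit.{u + 1} (co g l) (isUnit_co g l)
  have h1 : co x l = (Red.Ga S).hom.appTop.hom c := by
    have h2 : x = (gaIso S).hom ≫ g := by rw [Iso.hom_inv_id_assoc]
    rw [h2, co_comp]
    refine (congrArg _ hc).trans ?_
    have h3 := congrArg (fun φ => (Scheme.Hom.appTop φ).hom c) (Over.w (gaIso S).hom)
    simp only [Scheme.Hom.comp_appTop] at h3
    exact h3
  let z : 𝟙_ (Over S) ⟶ Red.Ga S := η[Red.Ga S]
  have h2 : co (z ≫ x) l = 1 := by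
    rw [show z ≫ x = 1 from hx, co_one]
  rw [co_comp, h1] at h2
  have h3 : z.left ≫ (Red.Ga S).hom = 𝟙 S := Over.w z
  have h4 := congrArg (fun φ => (Scheme.Hom.appTop φ).hom c) h3
  simp only [Scheme.Hom.comp_appTop] at h4
  have h5 : c = 1 := by
    have h6 : (𝟙 S : S ⟶ S).appTop.hom c = c := by simp
    exact h6.symm.trans (h4.symm.trans h2)
  rw [h1, h5, map_one, co_one]

variable [IsAlgClosed k] {X Y : Scheme.{u}} (π : X ⟶ Spec (CommRingCat.of k)) [IsProper π] [Smooth π]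
  [IsIntegral X] (i : Y ⟶ X) [IsClosedImmersion i] {n : ℕ} (D : EvDat (i ≫ π) (Fin (n + 1))) (D₀ : EvDat π (Fin 1))
  {P : Over (Spec (CommRingCat.of k))} [GrpObj P] [IsCommMonObj P]
  (eP : CGrpSh.pts Scheme.fppfPrecoverage P ≅ (EtFppf.RpushBig π 1).obj (EtDl.GmMod i))

omit [IsAlgClosed k] in
theorem hfl (T : Over (Spec (CommRingCat.of k))) : Flat T.hom := inferInstance

include D₀ in
theorem exists_of_trivial {T : Over (Spec (CommRingCat.of k))} [IsAffine T.left] {m : Type u} [Finite m]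
    (j : T.left ⟶ 𝔸(m; Spec (CommRingCat.of k))) [IsOpenImmersion j]
    (hj : j ≫ (𝔸(m; Spec (CommRingCat.of k)) ↘ Spec (CommRingCat.of k)) = T.hom)
    (t : 𝟙_ (Over (Spec (CommRingCat.of k))) ⟶ T) (f : T ⟶ P) (hf : t ≫ f = 1) :
    ∃ x : T ⟶ DT _ n, x ≫ jm hfl D eP = f := by
  have hN : IsLocallyNoetherian X := LocallyOfFiniteType.isLocallyNoetherian π
  obtain ⟨w, hw⟩ := HomInv.exists_delta π (fun T s => h0 D D₀ hfl T s) (isNormalScheme π) j hj t (cls eP f) (by
    refine (cls_comp eP t f).symm.trans ?_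
    rw [hf, cls_one])
  exact exists_of_delta hfl D eP f w hw

include D₀ in
theorem exists_gm (f : Red.Gm (Spec (CommRingCat.of k)) ⟶ P) [IsMonHom f] :
    ∃ x : Red.Gm (Spec (CommRingCat.of k)) ⟶ DT _ n, x ≫ jm hfl D eP = f := by
  obtain ⟨j, hj, hj'⟩ := exists_gmMap (Spec (CommRingCat.of k))
  have := Groth.Agent.Sga3.H783.GaGm.isAffine_gm k
  refine exists_of_trivial π i D D₀ eP j hj' η f ?_
  rw [IsMonHom.one_hom]
  exact (Category.id_comp _).symm.trans (by rw [Hom.one_def]; rfl)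

include D D₀ eP in
theorem eq_one_of_hom_ga (f : Red.Ga (Spec (CommRingCat.of k)) ⟶ P) [IsMonHom f] : f = 1 := by
  have := Groth.Agent.Sga3.H783.GaGm.isAffine_ga k
  have h1 : (η[Red.Ga (Spec (CommRingCat.of k))] : 𝟙_ (Over (Spec (CommRingCat.of k))) ⟶ _) ≫ f = 1 := by
    rw [IsMonHom.one_hom]
    exact (Category.id_comp _).symm.trans (by rw [Hom.one_def]; rfl)
  obtain ⟨x, hx⟩ := exists_of_trivial π i D D₀ eP (gaMap _) gaMap_over η f h1
  have h2 := isMonHom_jm hfl D eP
  have h3 := mono_jm hfl D D₀ eP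
  have h4 : (η[Red.Ga (Spec (CommRingCat.of k))] : 𝟙_ (Over (Spec (CommRingCat.of k))) ⟶ _) ≫ x = 1 := by
    rw [← cancel_mono (jm hfl D eP), Category.assoc, hx, h1, MonObj.one_comp]
  rw [← hx, eq_one_of_ga x h4, MonObj.one_comp]

end K412.Fact
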