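import Groth.Agent.PicF.K412.Empty

/-!
# The neutral component of the relative Picard scheme of a pair `(X, Y)`
-/

set_option autoImplicit false
universe u
open CategoryTheory MonoidalCategory CartesianMonoidalCategory MonObj GrpObj AlgebraicGeometry CategoryTheory.Limits

namespace K412.Final

open K412.Ev K412.JMap

variable {k : Type u} [Field k] [IsAlgClosed k] [CharZero k]
    {Xb Y : Scheme.{u}} (π : Xb ⟶ Spec (CommRingCat.of k)) [IsProper π] [Smooth π] [IsIntegral Xb]

/-- Evaluation data of `X`. -/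
theorem exists_evDat_X : Nonempty (EvDat π (Fin 1)) := by
  refine exists_evDat π 1 ?_
  have h1 : Subsingleton (_root_.ConnectedComponents Xb) := by
    refine ⟨fun a b => ?_⟩
    obtain ⟨x, rfl⟩ := _root_.ConnectedComponents.surjective_coe a
    obtain ⟨y, rfl⟩ := _root_.ConnectedComponents.surjective_coe b
    rw [_root_.ConnectedComponents.coe_eq_coe, PreconnectedSpace.connectedComponent_eq_univ,
      PreconnectedSpace.connectedComponent_eq_univ]
  have h2 : Nonempty (_root_.ConnectedComponents Xb) := ⟨_root_.ConnectedComponents.mk (Classical.arbitrary Xb)⟩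
  exact Nat.card_eq_one_iff_unique.2 ⟨h1, h2⟩

theorem key (n : ℕ) (i : Y ⟶ Xb) [IsClosedImmersion i] (D : EvDat (i ≫ π) (Fin (n + 1)))
    (P : Over (Spec (CommRingCat.of k))) [GrpObj P] [IsCommMonObj P] [LocallyOfFiniteType P.hom]
    (eP : CGrpSh.pts Scheme.fppfPrecoverage P ≅ (EtFppf.RpushBig π 1).obj (EtDl.GmMod i)) :
    ∃ (P0 : Over (Spec (CommRingCat.of k))) (_ : GrpObj P0) (e : P0 ⟶ P) (_ : IsMonHom e)
      (T : Over (Spec (CommRingCat.of k))) (_ : GrpObj T) (j : T ⟶ P0) (_ : IsMonHom j)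
      (A : Over (Spec (CommRingCat.of k))) (_ : GrpObj A) (q : P0 ⟶ A) (_ : IsMonHom q),
      IsOpenImmersion e.left ∧ ConnectedSpace ↥P0.left ∧ IsClosedImmersion j.left ∧
      Red.IsSplitTorusWith (Fin n → ℤ) T ∧
      IsProper A.hom ∧ Smooth A.hom ∧ ConnectedSpace ↥A.left ∧
      Surjective q.left ∧ Flat q.left ∧ AlgGrp.IsKernel j q := by
  obtain ⟨D₀⟩ := exists_evDat_X π
  have h1 := isMonHom_jm Fact.hfl D eP
  have h2 := mono_jm Fact.hfl D D₀ eP
  exact Semi.neutral_semiabelian P n (DT (Spec (CommRingCat.of k)) n) (jm Fact.hfl D eP) ⟨Iso.refl _⟩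
    (fun f hf => Fact.eq_one_of_hom_ga π i D D₀ eP f)
    (fun f hf => Fact.exists_gm π i D D₀ eP f)

theorem main (i : Y ⟶ Xb) [IsClosedImmersion i] [IsReduced Y]
    (c : ℕ) (hc : Nat.card (_root_.ConnectedComponents ↥Y) = c)
    (P : Over (Spec (CommRingCat.of k))) [GrpObj P] [IsCommMonObj P] [LocallyOfFiniteType P.hom]
    (eP : CGrpSh.pts Scheme.fppfPrecoverage P ≅ (EtFppf.RpushBig π 1).obj (EtDl.GmMod i)) :
    ∃ (P0 : Over (Spec (CommRingCat.of k))) (_ : GrpObj P0) (e : P0 ⟶ P) (_ : IsMonHom e)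
      (T : Over (Spec (CommRingCat.of k))) (_ : GrpObj T) (j : T ⟶ P0) (_ : IsMonHom j)
      (A : Over (Spec (CommRingCat.of k))) (_ : GrpObj A) (q : P0 ⟶ A) (_ : IsMonHom q),
      IsOpenImmersion e.left ∧ ConnectedSpace ↥P0.left ∧ IsClosedImmersion j.left ∧
      Red.IsSplitTorusWith (Fin (c - 1) → ℤ) T ∧
      IsProper A.hom ∧ Smooth A.hom ∧ ConnectedSpace ↥A.left ∧
      Surjective q.left ∧ Flat q.left ∧ AlgGrp.IsKernel j q := by
  obtain _ | n := c
  · -- `Y` is empty
    have hN : IsNoetherian Y := Groth.Agent.CurvesB.GenusLib.isNoetherian_of_proper (i ≫ π)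
    have hL : LocallyConnectedSpace Y := Groth.Agent.S2277.result Y fun x =>
      ⟨Set.univ, Filter.univ_mem, TopologicalSpace.NoetherianSpace.set _⟩
    have hfin : Finite (_root_.ConnectedComponents Y) := inferInstance
    have hE : IsEmpty (_root_.ConnectedComponents Y) := by
      rcases Nat.card_eq_zero.1 hc with h | h
      · exact h
      · exact (h.not_finite hfin).elim
    have hY : IsEmpty Y := ⟨fun y => hE.elim (_root_.ConnectedComponents.mk y)⟩
    obtain ⟨x₀, hx₀⟩ := Groth.Agent.Etdl.H494.Gamma.exists_section π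
    have hcl : IsClosedImmersion x₀ := by
      have : IsClosedImmersion (x₀ ≫ π) := by rw [hx₀]; infer_instance
      exact IsClosedImmersion.of_comp x₀ π
    obtain ⟨e₁⟩ := Empty.nonempty_iso_empty i
    obtain ⟨e₂⟩ := Empty.nonempty_iso_point π x₀ hx₀ Fact.hfl
    obtain ⟨D⟩ := Empty.exists_evDat π x₀ hx₀
    exact key π 0 x₀ D P (eP ≪≫ (EtFppf.RpushBig π 1).mapIso e₁ ≪≫ e₂.symm)
  · obtain ⟨D⟩ := exists_evDat (i ≫ π) (n + 1) hc
    exact key π n i D P eP

end K412.Final
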