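import Groth.Agent.Picfga.LineCocycle
import Groth.Agent.Fdesc.LocGenPullback

/-!
# Cocycles of units and triviality of the line bundle
-/

set_option autoImplicit false
universe u
open CategoryTheory CategoryTheory.Limits AlgebraicGeometry Opposite TopologicalSpace

noncomputable section

namespace K412.LB

open Groth.Agent.Fdesc.LocGen

variable {Z : Scheme.{u}}

/-- A module with a global generator is trivial. -/
theorem nonempty_iso_of_isGen {M : Z.Modules} (e : Γ(M, ⊤)) (he : IsGen e) :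
    Nonempty (M ≅ Coh.structureModule Z) := by
  have h1 : IsIso (homOf e) := (isIso_iff_isGen _).2 (by rw [sec_homOf]; exact he.res _)
  exact ⟨(asIso (homOf e)).symm⟩

/-- A trivial module with generators gives a coboundary. -/
theorem exists_units_of_iso {ι : Type u} (V : ι → Z.Opens) (g : ∀ i j, Γ(Z, V i ⊓ V j)) {L : Z.Modules}
    (e : ∀ i, Γ(L, V i)) (he : ∀ i, IsGen (e i))
    (hg : ∀ i j, res L inf_le_left (e i) = g i j • res L inf_le_right (e j)) (φ : L ≅ Coh.structureModule Z) :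
    ∃ h : ∀ i, Γ(Z, V i), (∀ i, IsUnit (h i)) ∧
      ∀ i j, ores inf_le_left (h i) = g i j * ores inf_le_right (h j) := by
  let t : Γ(L, ⊤) := φ.inv.app ⊤ (one ⊤)
  have ht : IsGen t := (isGen_one ⊤).app φ.inv
  have h1 : ∀ i, ∃ a : Γ(Z, V i), IsUnit a ∧ e i = a • res L (le_top : V i ≤ ⊤) t :=
    fun i => (ht.res le_top).exists_unit (he i)
  choose a ha hea using h1
  refine ⟨a, ha, fun i j => ?_⟩
  have h2 := hg i j
  rw [hea i, hea j, res_smul, res_smul, res_res, res_res, smul_smul] at h2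
  exact (ht.res (le_top : V i ⊓ V j ≤ ⊤)).ext h2

/-- A coboundary gives a trivialization. -/
theorem nonempty_iso_of_units {ι : Type u} (V : ι → Z.Opens) (hV : ∀ x : Z, ∃ i, x ∈ V i)
    (g : ∀ i j, Γ(Z, V i ⊓ V j)) {L : Z.Modules}
    (e : ∀ i, Γ(L, V i)) (he : ∀ i, IsGen (e i))
    (hg : ∀ i j, res L inf_le_left (e i) = g i j • res L inf_le_right (e j))
    (h : ∀ i, Γ(Z, V i)) (hu : ∀ i, IsUnit (h i)) (hh : ∀ i j, ores inf_le_left (h i) = g i j * ores inf_le_right (h j)) :
    Nonempty (L ≅ Coh.structureModule Z) := by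
  choose h' hh' using fun i => (hu i).exists_right_inv
  have hu' : ∀ i, IsUnit (h' i) := fun i => IsUnit.of_mul_eq_one_right _ (hh' i)
  have hcov : (⊤ : Z.Opens) ≤ ⨆ i, V i := fun x _ => by
    obtain ⟨i, hi⟩ := hV x
    exact Opens.mem_iSup.2 ⟨i, hi⟩
  obtain ⟨t, ht⟩ := res_glue L V (fun i => le_top) hcov (fun i => h' i • e i) (by
    intro i j
    have h1 : ores (inf_le_left : V i ⊓ V j ≤ V i) (h i) * ores inf_le_left (h' i) = 1 := by
      rw [← map_mul, hh', map_one]
    have h2 : ores (inf_le_right : V i ⊓ V j ≤ V j) (h j) * ores inf_le_right (h' j) = 1 := by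
      rw [← map_mul, hh', map_one]
    rw [res_smul, res_smul, hg, smul_smul]
    congr 1
    have h3 := hh i j
    calc ores inf_le_left (h' i) * g i j
        = ores inf_le_left (h' i) * (g i j * ores inf_le_right (h j)) * ores inf_le_right (h' j) := by
          rw [mul_assoc, mul_assoc, h2, mul_one]
      _ = (ores inf_le_left (h i) * ores inf_le_left (h' i)) * ores inf_le_right (h' j) := by rw [← h3]; ring
      _ = ores inf_le_right (h' j) := by rw [h1, one_mul])
  refine nonempty_iso_of_isGen t ?_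
  refine IsGen.of_cover V (fun i => le_top) hcov fun i => ?_
  rw [ht]
  exact (he i).unit_smul (hu' i)

/-- The pull back of a coboundary. -/
theorem nonempty_iso_pullback_of_units {Z' : Scheme.{u}} (f : Z' ⟶ Z) {ι : Type u} (V : ι → Z.Opens)
    (hV : ∀ x : Z, ∃ i, x ∈ V i) (g : ∀ i j, Γ(Z, V i ⊓ V j)) {L : Z.Modules}
    (e : ∀ i, Γ(L, V i)) (he : ∀ i, IsGen (e i))
    (hg : ∀ i j, res L inf_le_left (e i) = g i j • res L inf_le_right (e j))
    (h : ∀ i, Γ(Z', f ⁻¹ᵁ V i)) (hu : ∀ i, IsUnit (h i))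
    (hh : ∀ i j, ores (f.preimage_mono inf_le_left) (h i) =
      f.app (V i ⊓ V j) (g i j) * ores (f.preimage_mono inf_le_right) (h j)) :
    Nonempty ((Scheme.Modules.pullback f).obj L ≅ Coh.structureModule Z') := by
  refine nonempty_iso_of_units (fun i => f ⁻¹ᵁ V i) (fun x => hV (f x)) (fun i j => f.app (V i ⊓ V j) (g i j))
    (fun i => pullSec f (e i)) (fun i => (he i).pullSec f) (fun i j => ?_) h hu hh
  have h1 := res_pullSec f (inf_le_left : V i ⊓ V j ≤ V i) (e i)
  have h2 := res_pullSec f (inf_le_right : V i ⊓ V j ≤ V j) (e j)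
  refine h1.trans ?_
  rw [hg, pullSec_smul, ← h2]
  rfl

end K412.LB
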