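import Groth.Agent.PicF.K412.Delta
import Groth.Agent.PicF.K412.LB
import Groth.Agent.Etdl.H494.Main

/-!
# The line bundle of a section of `Q = I / G_m(m)`
-/

set_option autoImplicit false
universe u
open CategoryTheory CategoryTheory.Limits AlgebraicGeometry Opposite

noncomputable section

namespace K412.HomInv

open Groth.Agent.Etdl.H432.Sec Groth.Agent.Etdl.H432.Un Groth.Agent.Etdl.H432.IQ Groth.Agent.Etdl.H494.Gamma
  Groth.Agent.Etdl.H494 Groth.Agent.Etdl.H432.LS K412.Delta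

open Groth.Agent.Fdesc.LocGen (IsGen ores)

variable {P Y : Scheme.{u}} {i : Y ⟶ P} {Z : Over P}

/-- The line bundle of a section of `Q`. -/
structure LBdat (q : Γs (Q i) Z) where
  /-- index set -/
  A : Type u
  /-- open cover -/
  V : A → Z.left.Opens
  cov : ∀ x : Z.left, ∃ a, x ∈ V a
  /-- lifts -/
  b : ∀ a, Γs (I i) (opn Z (V a))
  lift : ∀ a, IsLift q (opnι Z (V a)) (b a)
  /-- the cocycle -/
  s : ∀ a a', Γs (F i) (opn Z (V a ⊓ V a'))
  hs : ∀ a a', r (I i) (opnLE inf_le_left) (b a) - r (I i) (opnLE inf_le_right) (b a') = m (α i) _ (s a a')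
  /-- the line bundle -/
  L : Z.left.Modules
  /-- the generators -/
  e : ∀ a, Γ(L, V a)
  gen : ∀ a, IsGen (e a)
  rel : ∀ a a', Groth.Agent.Fdesc.LocGen.res L inf_le_left (e a) =
    val (s a a') • Groth.Agent.Fdesc.LocGen.res L inf_le_right (e a')

theorem exists_LBdat [IsClosedImmersion i] (q : Γs (Q i) Z) : Nonempty (LBdat q) := by
  have h1 := H90.exists_open_lift q
  choose V hV b hb using h1
  have h2 : ∀ x y, ∃ s : Γs (F i) (opn Z (V x ⊓ V y)),
      r (I i) (opnLE inf_le_left) (b x) - r (I i) (opnLE inf_le_right) (b y) = m (α i) _ s :=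
    fun x y => exists_sub (IsLift.opnLE (hb x) inf_le_left) (IsLift.opnLE (hb y) inf_le_right)
  choose s hs using h2
  have hcoc : ∀ (x y z : Z.left) (W : Z.left.Opens) (hx : W ≤ V x) (hy : W ≤ V y) (hz : W ≤ V z),
      res (le_inf hx hz) (val (s x z)) = res (le_inf hx hy) (val (s x y)) * res (le_inf hy hz) (val (s y z)) := by
    intro x y z W hx hy hz
    have e : r (F i) (opnLE (le_inf hx hy)) (s x y) + r (F i) (opnLE (le_inf hy hz)) (s y z) =
        r (F i) (opnLE (le_inf hx hz)) (s x z) := by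
      apply α_injective
      rw [map_add, m_r, m_r, m_r, ← hs, ← hs, ← hs, map_sub, map_sub, map_sub]
      simp only [r_r]
      have e1 : ∀ (V₁ V₂ V₃ : Z.left.Opens) (h : V₂ ≤ V₁) (h' : V₃ ≤ V₂),
          opnLE (Z := Z) h' ≫ opnLE h = opnLE (h'.trans h) := fun V₁ V₂ V₃ h h' => opnMap_comp _ _ _ _ _ _ _
      simp only [e1]
      abel
    have e2 := congrArg val e
    rw [val_add, val_opnLE, val_opnLE, val_opnLE] at e2
    exact e2.symm
  have hone : ∀ x, val (s x x) = 1 := by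
    intro x
    have h3 := hcoc x x x (V x ⊓ V x) inf_le_left inf_le_left inf_le_left
    have h4 : ∀ (h : V x ⊓ V x ≤ V x ⊓ V x) (f : Γ(Z.left, V x ⊓ V x)), res h f = f := fun h f =>
      Groth.Agent.Fdesc.LocGen.ores_refl f
    rw [h4] at h3
    exact (((val_isUnit (s x x)).mul_right_inj).1 ((mul_one _).trans h3)).symm
  obtain ⟨L, e, he, hr⟩ := Groth.Agent.Picfga.LineCocycle.exists_of_cocycle (Y := Z.left) V (fun x y => val (s x y)) hone
    (fun x y z W hx hy hz => hcoc x y z W hx hy hz)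
  exact ⟨⟨Z.left, V, fun x => ⟨x, hV x⟩, b, hb, s, hs, L, e, he, hr⟩⟩

variable {q : Γs (Q i) Z} (D : LBdat q)

/-- The line bundle is invertible. -/
theorem LBdat.isInvertible : PicF.IsInvertible D.L := by
  rw [Groth.Agent.Fdesc.LocGen.isInvertible_iff]
  intro x
  obtain ⟨a, ha⟩ := D.cov x
  exact ⟨D.V a, D.e a, ha, D.gen a⟩

/-- If the class lifts to `I` over `Z'` then the pull back of the line bundle is trivial. -/
theorem LBdat.trivial_of_lift {Z' : Over P} (k : Z' ⟶ Z) (b₀ : Γs (I i) Z') (hb₀ : m (β i) Z' b₀ = r (Q i) k q) :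
    Nonempty ((Scheme.Modules.pullback k.left).obj D.L ≅ Coh.structureModule Z'.left) := by
  have h1 : ∀ a, ∃ s' : Γs (F i) (opn Z' (k.left ⁻¹ᵁ D.V a)),
      r (I i) (opnMap k (D.V a) (k.left ⁻¹ᵁ D.V a) le_rfl) (D.b a) - r (I i) (opnι Z' (k.left ⁻¹ᵁ D.V a)) b₀ =
        m (α i) _ s' := by
    intro a
    refine exists_sub (q := q) (g := opnι Z' (k.left ⁻¹ᵁ D.V a) ≫ k) ?_ ?_
    · exact IsLift.res' (D.lift a) _ (opnMap_opnι _ _ _ _)
    · rw [IsLift, m_r, hb₀, r_r]
  choose s' hs' using h1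
  refine LB.nonempty_iso_pullback_of_units k.left D.V D.cov (fun a a' => val (D.s a a')) D.e D.gen D.rel
    (fun a => val (s' a)) (fun a => val_isUnit _) (fun a a' => ?_)
  have e : r (F i) (opnLE (Z := Z') (V := k.left ⁻¹ᵁ D.V a) (V' := k.left ⁻¹ᵁ (D.V a ⊓ D.V a'))
        (fun x hx => hx.1)) (s' a) =
      r (F i) (opnMap k (D.V a ⊓ D.V a') (k.left ⁻¹ᵁ (D.V a ⊓ D.V a')) le_rfl) (D.s a a') +
      r (F i) (opnLE (Z := Z') (V := k.left ⁻¹ᵁ D.V a') (V' := k.left ⁻¹ᵁ (D.V a ⊓ D.V a'))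
        (fun x hx => hx.2)) (s' a') := by
    apply α_injective
    rw [map_add, m_r, m_r, m_r, ← hs', ← hs', ← D.hs, map_sub, map_sub, map_sub]
    simp only [r_r, opnMap_comp, opnLE_opnι, Category.id_comp, Category.comp_id]
    abel
  have e2 := congrArg val e
  rw [val_add, val_opnLE, val_opnLE, val_rs] at e2
  refine e2.trans ?_
  rw [← Scheme.Hom.app_eq_appLE]
  rfl

/-- The function on `V` of a section of `G_m` over the open subscheme `V` of `Z`. -/
def gval {V : Z.left.Opens} (t : Γs (EtDl.GmF P) (opn Z V)) : Γ(Z.left, V) := V.topIso.hom.hom (gm t : O (opn Z V))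

theorem gval_injective {V : Z.left.Opens} : Function.Injective (gval (Z := Z) (V := V)) := fun _ _ h =>
  gm_injective (Units.ext (topIso_hom_injective V h))

theorem gval_incl {V : Z.left.Opens} (s : Γs (F i) (opn Z V)) : gval (m (incl i) _ s) = val s := rfl

theorem gval_add {V : Z.left.Opens} (s t : Γs (EtDl.GmF P) (opn Z V)) : gval (s + t) = gval s * gval t := by
  rw [gval, gm_add, Units.val_mul, map_mul]
  rfl

theorem exists_gval {V : Z.left.Opens} (u : Γ(Z.left, V)) (hu : IsUnit u) :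
    ∃ s : Γs (EtDl.GmF P) (opn Z V), gval s = u := by
  obtain ⟨s, hs⟩ := gm_surjective (X := P) (U := opn Z V) ((hu.map V.topIso.inv.hom).unit)
  refine ⟨s, ?_⟩
  rw [gval, hs]
  change V.topIso.hom.hom (V.topIso.inv.hom u) = u
  rw [← CommRingCat.comp_apply, Iso.inv_hom_id]
  rfl

theorem gval_opnLE {V V' : Z.left.Opens} (h : V' ≤ V) (s : Γs (EtDl.GmF P) (opn Z V)) :
    gval (r (EtDl.GmF P) (opnLE h) s) = res h (gval s) := by
  rw [gval, gm_r]
  have e : ((𝟙 Z : Z ⟶ Z).left.resLE V V' h).appTop ≫ V'.topIso.hom =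
      V.topIso.hom ≫ (𝟙 Z : Z ⟶ Z).left.appLE V V' h := by
    rw [Scheme.Hom.appTop, Scheme.Hom.resLE_app_top, Category.assoc, Category.assoc, Iso.inv_hom_id,
      Category.comp_id]
  refine (congr($(e).hom (gm s : O (opn Z V)))).trans ?_
  change ((𝟙 Z : Z ⟶ Z).left.appLE V V' h).hom (gval s) = _
  congr 1

/-- If the line bundle is trivial then the section of `Q` comes from a unit on `Y` up to `I`. -/
theorem LBdat.exists_of_trivial [IsClosedImmersion i] (φ : D.L ≅ Coh.structureModule Z.left) :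
    ∃ (w : Γs (GY i) Z) (b' : Γs (I i) Z), m (β i) Z b' = q - m (chi i) Z w := by
  obtain ⟨h, hu, hh⟩ := LB.exists_units_of_iso D.V (fun a a' => val (D.s a a')) D.e D.gen D.rel φ
  choose t ht using fun a => exists_gval (Z := Z) (h a) (hu a)
  have key : ∀ a a', r (EtDl.GmF P) (opnLE inf_le_left) (t a) - r (EtDl.GmF P) (opnLE inf_le_right) (t a') =
      m (incl i) _ (D.s a a') := by
    intro a a'
    rw [sub_eq_iff_eq_add]
    apply gval_injective
    rw [gval_add, gval_opnLE, gval_opnLE, gval_incl, ht, ht]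
    exact hh a a'
  obtain ⟨w, hw⟩ := glueOpen (GY i) D.V D.cov (fun a => m (EtDl.resGmF i) _ (t a)) (by
    intro a a'
    rw [← m_r, ← m_r, ← sub_eq_zero, ← map_sub, key, m_incl_res])
  obtain ⟨b', hb'⟩ := glueOpen (I i) D.V D.cov (fun a => D.b a - m (iota i) _ (t a)) (by
    intro a a'
    rw [← sub_eq_zero, map_sub, map_sub, ← m_r, ← m_r]
    have h3 : m (iota i) _ (r (EtDl.GmF P) (opnLE inf_le_left) (t a)) -
        m (iota i) _ (r (EtDl.GmF P) (opnLE inf_le_right) (t a')) = m (α i) _ (D.s a a') := by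
      rw [← map_sub, key, m_incl_iota]
    rw [← D.hs] at h3
    rw [← sub_eq_zero] at h3
    rw [← neg_eq_zero] at h3
    refine Eq.trans ?_ h3
    abel)
  refine ⟨w, b', ?_⟩
  apply eq_of_openCover (Q i) D.V D.cov
  intro a
  rw [← m_r, hb', map_sub, map_sub, D.lift a, ← m_r, hw, m_res_chi]

end K412.HomInv
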