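import Groth.Agent.Etdl.H494.Gamma
import Mathlib.CategoryTheory.Preadditive.Injective.Preserves

/-!
# `pushBig` preserves injectives; the section of `γ` when `pbar_* G_m(m) = 0`
-/

set_option autoImplicit false
universe u
open CategoryTheory CategoryTheory.Limits AlgebraicGeometry Opposite

noncomputable section

namespace K412.PushInj

open Groth.Agent.Etdl.H432.Sec Groth.Agent.Etdl.H432.Un Groth.Agent.Etdl.H432.IQ Groth.Agent.Etdl.H494.Gamma

variable {X Y : Scheme.{u}}

/-- Restriction of big fppf sheaves along `f : X ⟶ Y`. -/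
abbrev resBig (f : X ⟶ Y) : EtFppf.AbF Y ⥤ EtFppf.AbF X :=
  (Over.map f).sheafPushforwardContinuous AddCommGrpCat.{u + 1} (EtFppf.J X) (EtFppf.J Y)

/-- `f^{-1} ⊣ f_*`. -/
def adj (f : X ⟶ Y) : resBig f ⊣ EtFppf.pushBig f :=
  (Over.mapPullbackAdj f).sheafPushforwardContinuous (E := AddCommGrpCat.{u + 1}) (EtFppf.J X) (EtFppf.J Y)

instance isRightAdjoint_resBig (f : X ⟶ Y) : (resBig f).IsRightAdjoint := inferInstance

instance preservesMono_resBig (f : X ⟶ Y) : (resBig f).PreservesMonomorphisms := inferInstance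

instance preservesInjectives (f : X ⟶ Y) : (EtFppf.pushBig f).PreservesInjectiveObjects :=
  Functor.preservesInjectiveObjects_of_adjunction_of_preservesMonomorphisms (adj f)

section

variable {S P : Scheme.{u}} (pbar : P ⟶ S) (i : Y ⟶ P)

instance injective_push : Injective ((EtFppf.pushBig pbar).obj (I i)) :=
  (EtFppf.pushBig pbar).injective_obj_of_injective (inferInstanceAs (Injective (I i)))

theorem mono_of_injective {X : Scheme.{u}} {H H' : EtFppf.AbF X} (φ : H ⟶ H')
    (h : ∀ U : Over X, Function.Injective (m φ U)) : Mono φ := by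
  refine Preadditive.mono_of_cancel_zero φ fun {G} g hg => ?_
  ext U x
  refine h U.unop ?_
  have h1 : m φ U.unop (m g U.unop x) = 0 := by
    rw [← m_comp, hg, m_zero]
  exact h1.trans (map_zero _).symm

variable (h0 : ∀ (T : Over S) (s : Γs (F i) (PO pbar T)), s = 0)

include h0 in
theorem mono_map_β : Mono ((EtFppf.pushBig pbar).map (β i)) := by
  refine mono_of_injective _ fun T => ?_
  rw [injective_iff_map_eq_zero]
  intro b hb
  obtain ⟨s, hs⟩ := exists_α (i := i) (U := PO pbar T) b hb
  rw [← hs, h0 T s, map_zero]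
  rfl

include h0 in
/-- Every section of `R^1 pbar_* G_m(m)` comes from a global torsor if `pbar_* G_m(m) = 0`. -/
theorem exists_global {T : Over S} (ξ : Γs (Jc pbar i) T) : ∃ q : Γs (Q i) (PO pbar T), cl pbar q = ξ := by
  have hm := mono_map_β pbar i h0
  have he := exact_γ pbar i
  have hepi : Epi (γ pbar i) := inferInstance
  let S₀ := ShortComplex.mk ((EtFppf.pushBig pbar).map (β i)) (γ pbar i) (map_β_γ pbar i)
  have hS : S₀.ShortExact := { exact := he, mono_f := hm, epi_g := hepi }
  have hinj : Injective S₀.X₁ := injective_push pbar i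
  let hspl : S₀.Splitting := hS.splittingOfInjective
  refine ⟨m hspl.s T ξ, ?_⟩
  have h1 : m (hspl.s ≫ γ pbar i) T ξ = ξ := by
    have h2 : hspl.s ≫ γ pbar i = 𝟙 _ := hspl.s_g
    rw [h2, m_id]
  exact h1

include h0 in
theorem exists_of_cl_eq_zero_global {T : Over S} (q : Γs (Q i) (PO pbar T)) (hq : cl pbar q = 0) :
    ∃ b : Γs (I i) (PO pbar T), m (β i) _ b = q := by
  have hm := mono_map_β pbar i h0
  exact exists_of_exact (map_β_γ pbar i) (exact_γ pbar i) (U := T) q hq

end

end K412.PushInj
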